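import Groth.Agent.H22.StrictTransform.Exists
import Groth.Agent.Lib.SchDense.Basic

/-!
# Extending a section over an open after an admissible blow-up
-/

set_option autoImplicit false
set_option maxHeartbeats 1000000

noncomputable section

universe u

open CategoryTheory CategoryTheory.Limits AlgebraicGeometry TopologicalSpace

namespace Groth.Agent.H22.StrictTransform

open Groth.Agent.Lib

variable {X S : Scheme.{u}}

theorem std_toImage {Y : Scheme.{u}} (f : X ⟶ Y) [QuasiCompact f] :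
    IsSchemeTheoreticallyDominant f.toImage := by
  refine ⟨Scheme.IdealSheafData.ext_of_iSup_eq_top
    (fun U : Y.affineOpens => (⟨f.imageι ⁻¹ᵁ U.1, U.2.preimage f.imageι⟩ : f.image.affineOpens))
    ?_ fun U => ?_⟩
  · rw [← Scheme.Hom.preimage_iSup, iSup_affineOpens_eq_top]
    rfl
  · rw [Scheme.Hom.ker_apply, Scheme.IdealSheafData.ideal_bot, Pi.bot_apply]
    exact (RingHom.injective_iff_ker_eq_bot _).1 (f.toImage_app_injective U)

/-- A schematically dominant section over `U` of a separated morphism exhausts the preimage. -/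
theorem eq_comp_of_section {X₁ : Scheme.{u}} (ψ : X₁ ⟶ S) [IsSeparated ψ] (U : S.Opens)
    (d : (U : Scheme.{u}) ⟶ X₁) [IsSchemeTheoreticallyDominant d] [QuasiCompact d]
    (hd : d ≫ ψ = U.ι) {T : Scheme.{u}} (k : T ⟶ X₁) (u : T ⟶ U) (hk : k ≫ ψ = u ≫ U.ι) :
    k = u ≫ d := by
  let V := ψ ⁻¹ᵁ U
  haveI : IsSchemeTheoreticallyDominant (d ∣_ V) :=
    IsSchemeTheoreticallyDominant.of_isPullback (isPullback_morphismRestrict d V).flip
  have hV : (ψ ∣_ U) ≫ d = V.ι := by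
    refine SchDense.Basic.ext_of_std ψ ?_ (d ∣_ V) ?_
    · rw [Category.assoc, hd, morphismRestrict_ι]
    · rw [morphismRestrict_ι]
      rw [← Category.assoc]
      congr 1
      rw [← cancel_mono U.ι, Category.assoc, morphismRestrict_ι, morphismRestrict_ι_assoc, hd]
  have hr : Set.range k ⊆ Set.range V.ι := by
    rintro _ ⟨t, rfl⟩
    rw [Scheme.Opens.range_ι]
    show ψ (k t) ∈ U
    rw [← Scheme.Hom.comp_apply, hk]
    exact (u t).2
  let k' := IsOpenImmersion.lift V.ι k hr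
  have hk' : k' ≫ V.ι = k := IsOpenImmersion.lift_fac _ _ _
  have : k' ≫ (ψ ∣_ U) = u := by
    rw [← cancel_mono U.ι, Category.assoc, morphismRestrict_ι, reassoc_of% hk', hk]
  rw [← this, Category.assoc, hV, hk']

theorem isIso_of_section {X₁ : Scheme.{u}} (ψ : X₁ ⟶ S) [IsSeparated ψ] (U : S.Opens)
    (d : (U : Scheme.{u}) ⟶ X₁) [IsSchemeTheoreticallyDominant d] [QuasiCompact d]
    (hd : d ≫ ψ = U.ι) : IsIso (ψ ∣_ U) := by
  have hr : Set.range d ⊆ Set.range (ψ ⁻¹ᵁ U).ι := by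
    rintro _ ⟨t, rfl⟩
    rw [Scheme.Opens.range_ι]
    show ψ (d t) ∈ U
    rw [← Scheme.Hom.comp_apply, hd]
    exact t.2
  refine ⟨IsOpenImmersion.lift (ψ ⁻¹ᵁ U).ι d hr, ?_, ?_⟩
  · rw [← cancel_mono (ψ ⁻¹ᵁ U).ι, Category.assoc, IsOpenImmersion.lift_fac, Category.id_comp]
    exact (eq_comp_of_section ψ U d hd (ψ ⁻¹ᵁ U).ι _ (morphismRestrict_ι ψ U).symm).symm
  · rw [← cancel_mono U.ι, Category.assoc, morphismRestrict_ι, IsOpenImmersion.lift_fac_assoc, hd,
      Category.id_comp]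

/-- The extension statement. -/
theorem exists_extend [CompactSpace S] [QuasiSeparatedSpace S]
    (U W : S.Opens) (hUW : U ≤ W) (hU : IsCompact (U : Set S)) (hW : IsCompact (W : Set S))
    (f : X ⟶ (W : Scheme.{u})) [IsProper f] (s : (U : Scheme.{u}) ⟶ X) (hs : s ≫ f = S.homOfLE hUW) :
    ∃ (𝓘 : S.IdealSheafData) (S' : Scheme.{u}) (b : S' ⟶ S), BlowUp.IsBlowUp b 𝓘 ∧
      BlowUp.IsAdmissibleFor U 𝓘 ∧ (𝓘.support : Set S) = (U : Set S)ᶜ ∧
      ∃ s' : ((b ⁻¹ᵁ W : S'.Opens) : Scheme.{u}) ⟶ X, s' ≫ f = b ∣_ W ∧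
        S'.homOfLE (show b ⁻¹ᵁ U ≤ b ⁻¹ᵁ W from fun _ hx => hUW hx) ≫ s' = (b ∣_ U) ≫ s := by
  haveI : CompactSpace (U : Scheme.{u}) := isCompact_iff_compactSpace.1 hU
  haveI : CompactSpace (W : Scheme.{u}) := isCompact_iff_compactSpace.1 hW
  haveI : QuasiCompact W.ι := quasiCompact_iff_compactSpace W.ι |>.2 inferInstance
  haveI : QuasiCompact U.ι := quasiCompact_iff_compactSpace U.ι |>.2 inferInstance
  haveI : QuasiCompact s := by
    have : QuasiCompact (s ≫ f ≫ W.ι) := by rw [← Category.assoc, hs, Scheme.homOfLE_ι]; infer_instance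
    exact QuasiCompact.of_comp s (f ≫ W.ι)
  let g : s.image ⟶ W := s.imageι ≫ f
  let ψ : s.image ⟶ S := g ≫ W.ι
  haveI := std_toImage s
  have hd : s.toImage ≫ ψ = U.ι := by
    simp only [ψ, g, ← Category.assoc, Scheme.Hom.toImage_imageι, hs, Scheme.homOfLE_ι]
  haveI : IsIso (ψ ∣_ U) := isIso_of_section ψ U s.toImage hd
  obtain ⟨𝓘, S', b, hb, hadm, hsupp, hq⟩ := exists_blowUp ψ U hU
  refine ⟨𝓘, S', b, hb, hadm, hsupp, ?_⟩
  have H : IsPullback (pullback.fst g (b ∣_ W)) (pullback.snd g (b ∣_ W) ≫ (b ⁻¹ᵁ W).ι) ψ b :=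
    (IsPullback.of_hasPullback g (b ∣_ W)).paste_vert (isPullback_morphismRestrict b W)
  obtain ⟨𝒥, h𝒥⟩ := exists_isTorsionIdeal
    (isFG_comap' (pullback.fst g (b ∣_ W)) (isFG_comap' ψ hadm.1))
  haveI hopen := hq _ _ _ H 𝒥 h𝒥
  haveI hres := isIso_restrict H hsupp h𝒥
  set q' := 𝒥.subschemeι ≫ pullback.snd g (b ∣_ W) with hq'd
  haveI : IsProper q' := inferInstance
  haveI : IsOpenImmersion (q' ≫ (b ⁻¹ᵁ W).ι) := by rw [hq'd, Category.assoc]; exact hopen
  haveI : IsOpenImmersion q' := IsOpenImmersion.of_comp q' (b ⁻¹ᵁ W).ι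
  have hsurj : Function.Surjective q' := by
    intro w
    by_contra hw
    let T : S'.Opens := (b ⁻¹ᵁ W).ι ''ᵁ ⟨(Set.range q')ᶜ, q'.isClosedMap.isClosed_range.isOpen_compl⟩
    have hwT : w.1 ∈ T := ⟨w, hw, by simp⟩
    have h10 : (1 : Γ(S', T)) = 0 := by
      refine Lib.Ideal.EffCartier.eq_zero_of_germ_eq_zero_off hb.1 _ fun y hy hys => ?_
      exfalso
      have hyU : b y ∈ U := by
        by_contra hn
        refine hys ?_
        rw [Scheme.IdealSheafData.support_comap]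
        show b y ∈ (𝓘.support : Set S)
        rw [hsupp]; exact hn
      obtain ⟨y', hy', he⟩ := hy
      obtain ⟨z, hz⟩ := ((𝒥.subschemeι ≫ pullback.snd g (b ∣_ W) ≫ (b ⁻¹ᵁ W).ι) ∣_ (b ⁻¹ᵁ U)).surjective
        ⟨y, hyU⟩
      refine hy' ⟨z.1, (b ⁻¹ᵁ W).ι.injective ?_⟩
      have h2 := congrArg Subtype.val hz
      simp only [morphismRestrict_base] at h2
      exact h2.trans he.symm
    have := congrArg (S'.presheaf.germ T w.1 hwT) h10
    rw [map_one, map_zero] at this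
    exact one_ne_zero this
  haveI : IsIso q' := (isIso_iff_isOpenImmersion_and_epi_base q').2
    ⟨inferInstance, (TopCat.epi_iff_surjective _).2 hsurj⟩
  let k := inv q' ≫ 𝒥.subschemeι ≫ pullback.fst g (b ∣_ W)
  have hk : k ≫ g = b ∣_ W := by
    simp only [k, Category.assoc, pullback.condition]
    rw [IsIso.inv_comp_eq, hq'd, Category.assoc]
  refine ⟨k ≫ s.imageι, by rw [Category.assoc]; exact hk, ?_⟩
  have h3 : S'.homOfLE (show b ⁻¹ᵁ U ≤ b ⁻¹ᵁ W from fun _ hx => hUW hx) ≫ k =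
      (b ∣_ U) ≫ s.toImage := by
    refine eq_comp_of_section ψ U s.toImage hd _ _ ?_
    simp only [ψ, Category.assoc]
    rw [reassoc_of% hk, morphismRestrict_ι, morphismRestrict_ι, Scheme.homOfLE_ι_assoc]
  rw [reassoc_of% h3, Scheme.Hom.toImage_imageι]

end Groth.Agent.H22.StrictTransform
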