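import Groth.Agent.H22.StrictTransform.BlowUp
import Groth.Agent.Lib.RelDiv.Diff

/-!
# The strict transform of a closed subscheme
-/

set_option autoImplicit false
set_option maxHeartbeats 1000000

noncomputable section

universe u

open CategoryTheory CategoryTheory.Limits AlgebraicGeometry TopologicalSpace

namespace Groth.Agent.H22.StrictTransform

open Groth.Agent.Lib

theorem ker_ι_off_eq_bot {Z : Scheme.{u}} {E : Z.IdealSheafData} (hE : BlowUp.IsEffCartierIdeal E)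
    [QuasiCompact (off E).ι] : (off E).ι.ker = ⊥ := by
  refine le_bot_iff.1 fun W a ha => ?_
  rw [Scheme.Hom.ker_apply, RingHom.mem_ker] at ha
  refine Lib.Ideal.EffCartier.eq_zero_of_germ_eq_zero_off hE a fun x hx hxE => ?_
  have h1 := congrArg ((off E).toScheme.presheaf.germ _ ⟨x, hxE⟩
    (show (⟨x, hxE⟩ : (off E).toScheme) ∈ (off E).ι ⁻¹ᵁ W.1 from hx)) ha
  rw [map_zero] at h1
  exact (ConcreteCategory.bijective_of_isIso ((off E).ι.stalkMap ⟨x, hxE⟩)).1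
    (((Scheme.Hom.germ_stalkMap_apply (off E).ι W.1 ⟨x, hxE⟩ hx a).trans h1).trans
      (map_zero _).symm)

theorem isClosedImmersion_lift {X X' Z' : Scheme.{u}} {𝓘 𝓙 : X.IdealSheafData} {b : X' ⟶ X}
    (hb : BlowUp.IsBlowUp b 𝓘) {b' : Z' ⟶ 𝓙.subscheme}
    (hb' : BlowUp.IsBlowUp b' (𝓘.comap 𝓙.subschemeι)) {k : Z' ⟶ X'}
    (hk : k ≫ b = b' ≫ 𝓙.subschemeι) : IsClosedImmersion k := by
  have H := IsPullback.of_hasPullback 𝓙.subschemeι b
  set p₁ := pullback.fst 𝓙.subschemeι b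
  set p₂ := pullback.snd 𝓙.subschemeι b
  haveI : IsClosedImmersion p₂ := MorphismProperty.of_isPullback H inferInstance
  have hE : Lim.IdealExt.IsFG ((𝓘.comap 𝓙.subschemeι).comap p₁) := by
    rw [← Scheme.IdealSheafData.comap_comp, H.w, Scheme.IdealSheafData.comap_comp]
    exact isFG_comap' _ fun U => RelDiv.Diff.fg_of_isEffCartier hb.1 U
  obtain ⟨𝒥, h𝒥⟩ := exists_isTorsionIdeal hE
  have hT := isBlowUp_strict' H hb hE h𝒥
  obtain ⟨e, he, -⟩ := hT.2 _ b' hb'.1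
  obtain ⟨e', he', -⟩ := hb'.2 _ _ hT.1
  haveI : IsIso e := by
    refine ⟨e', (hb'.2 _ _ hb'.1).unique ?_ (Category.id_comp _),
      (hT.2 _ _ hT.1).unique ?_ (Category.id_comp _)⟩
    · show (e ≫ e') ≫ b' = b'
      rw [Category.assoc, he', he]
    · show (e' ≫ e) ≫ _ = _
      rw [Category.assoc, he, he']
  have hc : BlowUp.IsEffCartierIdeal (𝓘.comap (b' ≫ 𝓙.subschemeι)) := by
    rw [Scheme.IdealSheafData.comap_comp]; exact hb'.1
  have : k = (e ≫ 𝒥.subschemeι) ≫ p₂ := by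
    refine (hb.2 _ _ hc).unique hk ?_
    show ((e ≫ 𝒥.subschemeι) ≫ p₂) ≫ b = _
    rw [Category.assoc, ← H.w, ← Category.assoc, Category.assoc e, he]
  rw [this]; infer_instance

theorem preimage_center {X X' Z' : Scheme.{u}} {𝓘 𝓙 : X.IdealSheafData} {b : X' ⟶ X}
    {b' : Z' ⟶ 𝓙.subscheme} {k : Z' ⟶ X'} (hk : k ≫ b = b' ≫ 𝓙.subschemeι) :
    k ⁻¹ᵁ (b ⁻¹ᵁ 𝓘.support.compl) = off ((𝓘.comap 𝓙.subschemeι).comap b') := by
  ext z
  have h : b (k z) = (b' ≫ 𝓙.subschemeι) z := by rw [← Scheme.Hom.comp_apply, hk]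
  show b (k z) ∉ 𝓘.support ↔ z ∉ ((𝓘.comap 𝓙.subschemeι).comap b').support
  rw [← Scheme.IdealSheafData.comap_comp, Scheme.IdealSheafData.support_comap, h]
  rfl

end Groth.Agent.H22.StrictTransform
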