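import Groth.Agent.H22.StrictTransform.BlowUp
import Groth.Agent.Lib.BlowUpExists.Proper

/-!
# Common blow-ups of birational schemes
-/

set_option autoImplicit false
set_option maxHeartbeats 1000000

noncomputable section

universe u

open CategoryTheory CategoryTheory.Limits AlgebraicGeometry TopologicalSpace

namespace Groth.Agent.H22.StrictTransform

open Groth.Agent.Lib

variable {X S : Scheme.{u}}

/-- Blow-ups compose with isomorphisms. -/
theorem isBlowUp_iso_comp {X' X'' : Scheme.{u}} {b : X' ⟶ X} {I : X.IdealSheafData}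
    (hb : BlowUp.IsBlowUp b I) (k : X'' ⟶ X') [IsIso k] : BlowUp.IsBlowUp (k ≫ b) I := by
  refine ⟨?_, fun Y g hg => ?_⟩
  · rw [Scheme.IdealSheafData.comap_comp]
    exact Lib.Ideal.EffCartier.isEffCartier_comap_of_flat _ hb.1
  · obtain ⟨l, hl, hlu⟩ := hb.2 Y g hg
    refine ⟨l ≫ inv k, ?_, fun l' hl' => ?_⟩
    · show (l ≫ inv k) ≫ k ≫ b = g
      rw [Category.assoc, IsIso.inv_hom_id_assoc, hl]
    · rw [IsIso.eq_comp_inv]
      refine hlu _ ?_
      show (l' ≫ k) ≫ b = g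
      rw [Category.assoc]; exact hl'

theorem isAdmissible_comap (φ : X ⟶ S) (U : S.Opens) {I : S.IdealSheafData}
    (h : BlowUp.IsAdmissibleFor U I) : BlowUp.IsAdmissibleFor (φ ⁻¹ᵁ U) (I.comap φ) := by
  refine ⟨isFG_comap' φ h.1, ?_⟩
  rw [Scheme.IdealSheafData.support_comap]
  exact Set.disjoint_left.2 fun x hx hxU => Set.disjoint_left.1 h.2 hx hxU

/-- After admissible blow-ups of source and target a birational morphism is an open immersion. -/
theorem exists_openImmersion [CompactSpace S] [QuasiSeparatedSpace S]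
    (φ : X ⟶ S) [IsSeparated φ] [LocallyOfFiniteType φ] [QuasiCompact φ] (U : S.Opens)
    (hU : IsCompact (U : Set S)) [IsIso (φ ∣_ U)] :
    ∃ (𝓙 : S.IdealSheafData) (X' S' : Scheme.{u}) (r : X' ⟶ X) (c : S' ⟶ S) (j : X' ⟶ S'),
      BlowUp.IsBlowUp r (𝓙.comap φ) ∧ BlowUp.IsBlowUp c 𝓙 ∧ BlowUp.IsAdmissibleFor U 𝓙 ∧
      (𝓙.support : Set S) = (U : Set S)ᶜ ∧
      IsOpenImmersion j ∧ j ≫ c = r ≫ φ ∧ IsIso (j ∣_ (c ⁻¹ᵁ U)) := by
  obtain ⟨𝓙, S', c, hc, hadm, hsupp, hq⟩ := exists_blowUp φ U hU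
  have H := IsPullback.of_hasPullback φ c
  obtain ⟨𝒥, h𝒥⟩ := exists_isTorsionIdeal
    (isFG_comap' (pullback.fst φ c) (isFG_comap' φ hadm.1))
  refine ⟨𝓙, _, S', 𝒥.subschemeι ≫ pullback.fst φ c, c, 𝒥.subschemeι ≫ pullback.snd φ c,
    isBlowUp_strict H hc hadm.1 h𝒥, hc, hadm, hsupp, hq _ _ _ H 𝒥 h𝒥, ?_,
    isIso_restrict H hsupp h𝒥⟩
  simp only [Category.assoc, pullback.condition]

/-- A proper birational morphism has a common admissible blow-up. -/
theorem exists_common [CompactSpace S] [QuasiSeparatedSpace S]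
    (φ : X ⟶ S) [IsProper φ] (U : S.Opens) (hU : IsCompact (U : Set S)) [IsIso (φ ∣_ U)] :
    ∃ (𝓘 : S.IdealSheafData) (Y : Scheme.{u}) (c' : Y ⟶ X),
      BlowUp.IsBlowUp c' (𝓘.comap φ) ∧ BlowUp.IsBlowUp (c' ≫ φ) 𝓘 ∧
      BlowUp.IsAdmissibleFor U 𝓘 ∧ (𝓘.support : Set S) = (U : Set S)ᶜ := by
  obtain ⟨𝓙, X', S', r, c, j, hr, hc, hadm, hsupp, hj, hjc, hjU⟩ := exists_openImmersion φ U hU
  haveI : IsProper r := BlowUpExists.isProper_of_isBlowUp hr (isFG_comap' φ hadm.1)
  haveI : IsProper c := BlowUpExists.isProper_of_isBlowUp hc hadm.1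
  haveI : IsProper (j ≫ c) := by rw [hjc]; infer_instance
  haveI : IsProper j := IsProper.of_comp j c
  haveI := hjU
  have hsurj : Function.Surjective j := by
    intro w
    by_contra hw
    let T : S'.Opens := ⟨(Set.range j)ᶜ, j.isClosedMap.isClosed_range.isOpen_compl⟩
    have hwT : w ∈ T := hw
    have h10 : (1 : Γ(S', T)) = 0 := by
      refine Lib.Ideal.EffCartier.eq_zero_of_germ_eq_zero_off hc.1 _ fun y hy hys => ?_
      exfalso
      have hyU : c y ∈ U := by
        by_contra hn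
        refine hys ?_
        rw [Scheme.IdealSheafData.support_comap]
        show c y ∈ (𝓙.support : Set S)
        rw [hsupp]; exact hn
      obtain ⟨z, hz⟩ := (j ∣_ (c ⁻¹ᵁ U)).surjective ⟨y, hyU⟩
      refine hy ⟨z.1, ?_⟩
      simpa using congrArg Subtype.val hz
    have := congrArg (S'.presheaf.germ T w hwT) h10
    rw [map_one, map_zero] at this
    exact one_ne_zero this
  haveI : IsIso j := (isIso_iff_isOpenImmersion_and_epi_base j).2
    ⟨inferInstance, (TopCat.epi_iff_surjective _).2 hsurj⟩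
  refine ⟨𝓙, X', r, hr, ?_, hadm, hsupp⟩
  rw [← hjc]
  exact isBlowUp_iso_comp hc j

end Groth.Agent.H22.StrictTransform
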