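import Groth.Agent.H22.StrictTransform.TwoBirational
import Groth.Agent.H22.StrictTransform.Section
import Groth.Agent.H22.Glue2.Basic
import Mathlib.AlgebraicGeometry.ZariskisMainTheorem

/-!
# A common target of two admissible blow-ups
-/

set_option autoImplicit false
set_option maxHeartbeats 1000000

noncomputable section

universe u

open CategoryTheory CategoryTheory.Limits AlgebraicGeometry TopologicalSpace

namespace Groth.Agent.H22.StrictTransform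

open Groth.Agent.Lib

/-- Gluing two admissible blow-ups to a separated scheme. -/
theorem exists_common_target {U X₁ X₂ S : Scheme.{u}} [CompactSpace S] [QuasiSeparatedSpace S]
    (gU : U ⟶ S) (g₁ : X₁ ⟶ S) (g₂ : X₂ ⟶ S) [QuasiCompact gU]
    [IsSeparated g₁] [LocallyOfFiniteType g₁] [QuasiCompact g₁]
    [IsSeparated g₂] [LocallyOfFiniteType g₂] [QuasiCompact g₂]
    (j₁ : U ⟶ X₁) (j₂ : U ⟶ X₂) [IsOpenImmersion j₁] [IsOpenImmersion j₂]
    (hj₁ : j₁ ≫ g₁ = gU) (hj₂ : j₂ ≫ g₂ = gU) :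
    ∃ (X : Scheme.{u}) (q : X ⟶ S) (_ : IsSeparated q) (_ : LocallyOfFiniteType q) (_ : QuasiCompact q)
      (𝓘₁ : X₁.IdealSheafData) (𝓘₂ : X₂.IdealSheafData) (X₁' X₂' : Scheme.{u}) (b₁ : X₁' ⟶ X₁) (b₂ : X₂' ⟶ X₂)
      (o₁ : X₁' ⟶ X) (o₂ : X₂' ⟶ X) (u₁ : U ⟶ X₁') (u₂ : U ⟶ X₂'),
      BlowUp.IsBlowUp b₁ 𝓘₁ ∧ BlowUp.IsAdmissibleFor j₁.opensRange 𝓘₁ ∧
      BlowUp.IsBlowUp b₂ 𝓘₂ ∧ BlowUp.IsAdmissibleFor j₂.opensRange 𝓘₂ ∧
      IsOpenImmersion o₁ ∧ IsOpenImmersion o₂ ∧ o₁ ≫ q = b₁ ≫ g₁ ∧ o₂ ≫ q = b₂ ≫ g₂ ∧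
      u₁ ≫ b₁ = j₁ ∧ u₂ ≫ b₂ = j₂ ∧ u₁ ≫ o₁ = u₂ ≫ o₂ ∧
      Set.range o₁ ∪ Set.range o₂ = Set.univ := by
  haveI : CompactSpace U := QuasiCompact.compactSpace_of_compactSpace gU
  haveI : CompactSpace X₁ := QuasiCompact.compactSpace_of_compactSpace g₁
  haveI : CompactSpace X₂ := QuasiCompact.compactSpace_of_compactSpace g₂
  haveI : QuasiSeparatedSpace X₁ := quasiSeparatedSpace_of_quasiSeparated g₁
  haveI : QuasiSeparatedSpace X₂ := quasiSeparatedSpace_of_quasiSeparated g₂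
  let v : U ⟶ pullback g₁ g₂ := pullback.lift j₁ j₂ (hj₁.trans hj₂.symm)
  haveI : CompactSpace ↥(pullback g₁ g₂) :=
    QuasiCompact.compactSpace_of_compactSpace (pullback.fst g₁ g₂)
  haveI : QuasiSeparatedSpace ↥(pullback g₁ g₂) :=
    quasiSeparatedSpace_of_quasiSeparated (pullback.fst g₁ g₂)
  haveI := std_toImage v
  let p₁ : v.image ⟶ X₁ := v.imageι ≫ pullback.fst g₁ g₂
  let p₂ : v.image ⟶ X₂ := v.imageι ≫ pullback.snd g₁ g₂
  let d₁ := j₁.isoOpensRange.inv ≫ v.toImage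
  let d₂ := j₂.isoOpensRange.inv ≫ v.toImage
  have hd₁ : d₁ ≫ p₁ = j₁.opensRange.ι := by
    simp only [d₁, p₁, v, Category.assoc, Scheme.Hom.toImage_imageι_assoc, pullback.lift_fst]
    exact j₁.isoOpensRange_inv_comp
  have hd₂ : d₂ ≫ p₂ = j₂.opensRange.ι := by
    simp only [d₂, p₂, v, Category.assoc, Scheme.Hom.toImage_imageι_assoc, pullback.lift_snd]
    exact j₂.isoOpensRange_inv_comp
  haveI := isIso_of_section p₁ _ d₁ hd₁
  haveI := isIso_of_section p₂ _ d₂ hd₂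
  have hpre₁ : (p₁ ⁻¹ᵁ j₁.opensRange : Set v.image) = Set.range v.toImage := by
    refine subset_antisymm (fun z hz => ?_) ?_
    · have := eq_comp_of_section p₁ _ d₁ hd₁ (p₁ ⁻¹ᵁ j₁.opensRange).ι _ (morphismRestrict_ι _ _).symm
      refine ⟨j₁.isoOpensRange.inv ((p₁ ∣_ j₁.opensRange) ⟨z, hz⟩), ?_⟩
      rw [← Scheme.Hom.comp_apply, ← Scheme.Hom.comp_apply, show (p₁ ∣_ j₁.opensRange) ≫
        j₁.isoOpensRange.inv ≫ v.toImage = _ from this.symm]
      rfl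
    · rintro _ ⟨u, rfl⟩
      refine ⟨u, ?_⟩
      rw [← Scheme.Hom.comp_apply]
      simp only [p₁, v, Scheme.Hom.toImage_imageι_assoc, pullback.lift_fst]
  have hpre₂ : (p₂ ⁻¹ᵁ j₂.opensRange : Set v.image) = Set.range v.toImage := by
    refine subset_antisymm (fun z hz => ?_) ?_
    · have := eq_comp_of_section p₂ _ d₂ hd₂ (p₂ ⁻¹ᵁ j₂.opensRange).ι _ (morphismRestrict_ι _ _).symm
      refine ⟨j₂.isoOpensRange.inv ((p₂ ∣_ j₂.opensRange) ⟨z, hz⟩), ?_⟩
      rw [← Scheme.Hom.comp_apply, ← Scheme.Hom.comp_apply, show (p₂ ∣_ j₂.opensRange) ≫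
        j₂.isoOpensRange.inv ≫ v.toImage = _ from this.symm]
      rfl
    · rintro _ ⟨u, rfl⟩
      refine ⟨u, ?_⟩
      rw [← Scheme.Hom.comp_apply]
      simp only [p₂, v, Scheme.Hom.toImage_imageι_assoc, pullback.lift_snd]
  haveI : CompactSpace v.image := QuasiCompact.compactSpace_of_compactSpace v.imageι
  haveI : QuasiSeparatedSpace v.image := quasiSeparatedSpace_of_quasiSeparated v.imageι
  obtain ⟨I, J₁, J₂, Xt, Y₁, Y₂, b, c₁, c₂, i₁, i₂, hb, hI, hc₁, hJ₁, hc₂, hJ₂, hi₁, hi₂,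
    hic₁, hic₂⟩ := exists_two p₁ p₂ j₁.opensRange j₂.opensRange (isCompact_range j₁.continuous)
      (isCompact_range j₂.continuous) (Opens.ext (hpre₁.trans hpre₂.symm))
  haveI := hi₁; haveI := hi₂
  haveI : IsProper b := BlowUpExists.isProper_of_isBlowUp hb hI.1
  haveI : IsProper c₁ := BlowUpExists.isProper_of_isBlowUp hc₁ hJ₁.1
  haveI : IsProper c₂ := BlowUpExists.isProper_of_isBlowUp hc₂ hJ₂.1
  have hw : i₁ ≫ c₁ ≫ g₁ = i₂ ≫ c₂ ≫ g₂ := by
    rw [reassoc_of% hic₁, reassoc_of% hic₂]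
    simp only [p₁, p₂, Category.assoc, pullback.condition]
  haveI : IsClosedImmersion (pullback.lift i₁ i₂ hw) := by
    let l := pullback.lift i₁ i₂ hw
    let M : pullback (c₁ ≫ g₁) (c₂ ≫ g₂) ⟶ pullback g₁ g₂ :=
      pullback.map _ _ _ _ c₁ c₂ (𝟙 S) (by simp) (by simp)
    have hlM : l ≫ M = b ≫ v.imageι := by
      apply pullback.hom_ext <;>
        simp only [l, M, pullback.map, pullback.lift_fst, pullback.lift_snd, Category.assoc,
          pullback.lift_fst_assoc, pullback.lift_snd_assoc]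
      · exact hic₁
      · exact hic₂
    haveI : IsSeparated M := by
      have : IsSeparated (M ≫ pullback.fst g₁ g₂ ≫ g₁) := by
        simp only [M, pullback.map, pullback.lift_fst_assoc, Category.assoc]
        infer_instance
      exact IsSeparated.of_comp M (pullback.fst g₁ g₂ ≫ g₁)
    haveI : IsProper (l ≫ M) := by rw [hlM]; infer_instance
    haveI : IsProper l := IsProper.of_comp l M
    haveI : Mono l := mono_of_mono_fac (pullback.lift_fst i₁ i₂ hw)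
    exact (IsClosedImmersion.iff_isProper_and_mono l).2 ⟨inferInstance, inferInstance⟩
  haveI : CompactSpace Y₁ := QuasiCompact.compactSpace_of_compactSpace c₁
  haveI : CompactSpace Y₂ := QuasiCompact.compactSpace_of_compactSpace c₂
  have hcart : BlowUp.IsEffCartierIdeal (I.comap v.toImage) :=
    Lib.Ideal.EffCartier.isEffCartier_comap_of_disjoint _ fun u hu =>
      Set.disjoint_left.1 hI.2 hu ((Set.ext_iff.1 hpre₁ _).2 ⟨u, rfl⟩)
  obtain ⟨w, hw', -⟩ := hb.2 U v.toImage hcart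
  refine ⟨pushout i₁ i₂, pushout.desc (c₁ ≫ g₁) (c₂ ≫ g₂) hw,
    Glue2.isSeparated_desc i₁ i₂ _ _ hw, Glue2.locallyOfFiniteType_desc i₁ i₂ _ _ hw,
    Glue2.quasiCompact_desc i₁ i₂ _ _ hw, J₁, J₂, Y₁, Y₂, c₁, c₂, pushout.inl i₁ i₂,
    pushout.inr i₁ i₂, w ≫ i₁, w ≫ i₂, hc₁, hJ₁, hc₂, hJ₂, inferInstance, inferInstance,
    pushout.inl_desc _ _ _, pushout.inr_desc _ _ _, ?_, ?_, ?_, Glue2.range_union i₁ i₂⟩
  · rw [Category.assoc, hic₁, reassoc_of% hw']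
    simp only [p₁, v, Scheme.Hom.toImage_imageι_assoc, pullback.lift_fst]
  · rw [Category.assoc, hic₂, reassoc_of% hw']
    simp only [p₂, v, Scheme.Hom.toImage_imageι_assoc, pullback.lift_snd]
  · simp only [Category.assoc, pushout.condition]

end Groth.Agent.H22.StrictTransform
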