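import Groth.Agent.H22.StrictTransform.Main
import Groth.Agent.H22.BlowUpAmple

/-!
# Making a strict transform an open immersion by an admissible blow-up
-/

set_option autoImplicit false
set_option maxHeartbeats 1000000

noncomputable section

universe u

open CategoryTheory CategoryTheory.Limits AlgebraicGeometry TopologicalSpace

namespace Groth.Agent.H22.StrictTransform

open Groth.Agent.Lib

variable {X S : Scheme.{u}}

theorem isFG_comap' {Y : Scheme.{u}} (f : X ⟶ Y) {J : Y.IdealSheafData}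
    (hJ : Lim.IdealExt.IsFG J) : Lim.IdealExt.IsFG (J.comap f) := by
  refine Lim.IdealExt.isFG_of_iSup_eq_top _
    (fun p : {p : Y.affineOpens × X.affineOpens // p.2.1 ≤ f ⁻¹ᵁ p.1.1} => p.1.2) ?_ fun p => ?_
  · refine eq_top_iff.mpr fun x _ => ?_
    obtain ⟨U, V, -, hxV, -, -, hle⟩ :=
      Lib.Ideal.Comap.exists_affine_le_preimage f x (show x ∈ (⊤ : X.Opens) from trivial)
        (show f x ∈ (⊤ : Y.Opens) from trivial)
    exact Opens.mem_iSup.mpr ⟨⟨(U, V), hle⟩, hxV⟩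
  · rw [Lib.Ideal.Comap.ideal_comap f J _ _ p.2]
    exact (hJ p.1.1).map _

/-- A centre with given support factoring through finitely many ideals. -/
theorem exists_center (I₀ : S.IdealSheafData) (h₀ : Lim.IdealExt.IsFG I₀) (m : ℕ)
    (J : Fin m → S.IdealSheafData) (hJ : ∀ i, Lim.IdealExt.IsFG (J i))
    (hs : ∀ i, ((J i).support : Set S) ⊆ I₀.support) :
    ∃ I : S.IdealSheafData, Lim.IdealExt.IsFG I ∧ (I.support : Set S) = I₀.support ∧
      ∀ (Y : Scheme.{u}) (g : Y ⟶ S), BlowUp.IsEffCartierIdeal (I.comap g) →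
        ∀ i, BlowUp.IsEffCartierIdeal ((J i).comap g) := by
  induction m with
  | zero => exact ⟨I₀, h₀, rfl, fun _ _ _ i => i.elim0⟩
  | succ m ih =>
    obtain ⟨I, hI, hIs, hI'⟩ := ih (fun i => J i.succ) (fun i => hJ _) fun i => hs _
    refine ⟨J 0 * I, Flat55.GenericStrataScheme.isFG_mul (hJ 0) hI, ?_, fun Y g h i => ?_⟩
    · rw [Scheme.IdealSheafData.support_mul, Closeds.coe_sup, hIs, Set.union_eq_right.2 (hs 0)]
    · rw [Lib.Ideal.Comap.comap_mul] at h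
      cases i using Fin.cases with
      | zero => exact Lib.Ideal.EffCartier.isEffCartier_factor_left h
      | succ i => exact hI' Y g (Lib.Ideal.EffCartier.isEffCartier_factor_right h) i

/-- The theorem. -/
theorem exists_blowUp [CompactSpace S] [QuasiSeparatedSpace S]
    (φ : X ⟶ S) [IsSeparated φ] [LocallyOfFiniteType φ] [QuasiCompact φ] (U : S.Opens)
    (hU : IsCompact (U : Set S)) [IsIso (φ ∣_ U)] :
    ∃ (𝓘 : S.IdealSheafData) (S' : Scheme.{u}) (b : S' ⟶ S), BlowUp.IsBlowUp b 𝓘 ∧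
      BlowUp.IsAdmissibleFor U 𝓘 ∧ (𝓘.support : Set S) = (U : Set S)ᶜ ∧
      ∀ (X' : Scheme.{u}) (p₁ : X' ⟶ X) (p₂ : X' ⟶ S'), IsPullback p₁ p₂ φ b →
      ∀ (𝒥 : X'.IdealSheafData), IsTorsionIdeal ((𝓘.comap φ).comap p₁) 𝒥 →
        IsOpenImmersion (𝒥.subschemeι ≫ p₂) := by
  classical
  haveI : CompactSpace X := QuasiCompact.compactSpace_of_compactSpace φ
  obtain ⟨I₀, hI₀, hI₀s⟩ := Flat55.GenericStrataScheme.exists_isFG_support U hU
  have hloc : ∀ x : X, ∃ (P : S.affineOpens) (Q : X.affineOpens), x ∈ Q.1 ∧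
      Q.1 ≤ φ ⁻¹ᵁ P.1 := fun x => by
    obtain ⟨P, Q, -, hx, -, -, hle⟩ := Lib.Ideal.Comap.exists_affine_le_preimage φ x
      (show x ∈ (⊤ : X.Opens) from trivial) (show φ x ∈ (⊤ : S.Opens) from trivial)
    exact ⟨P, Q, hx, hle⟩
  choose P Q hxQ hle using hloc
  choose c hc using fun x => exists_chart φ U hU I₀ hI₀ hI₀s (P x) (Q x) (hle x)
  obtain ⟨F, hF⟩ := isCompact_univ.elim_finite_subcover (fun x : X => ((Q x).1 : Set X))
    (fun x => (Q x).1.2) fun x _ => Set.mem_iUnion.2 ⟨x, hxQ x⟩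
  let e := F.equivFin.symm
  obtain ⟨I, hI, hIs, hIc⟩ := exists_center I₀ hI₀ _ (fun i => (c (e i).1).J)
    (fun i => (c _).fg) fun i s hs => by
      rw [hI₀s]; exact fun h => (c _).disjoint s h hs
  rw [hI₀s] at hIs
  refine ⟨I, _, BlowUpExists.blProj I, BlowUpAmple.isBlowUp_blProj I, ⟨hI, ?_⟩, hIs,
    fun X' p₁ p₂ H 𝒥 h𝒥 => ?_⟩
  · rw [hIs]; exact disjoint_compl_left
  refine isOpenImmersion (fun i => c (e i).1) (fun x => ?_) (isFG_comap' _ (isFG_comap' _ hI)) hIs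
    (BlowUpAmple.isBlowUp_blProj I).1 (hIc _ _ (BlowUpAmple.isBlowUp_blProj I).1) H h𝒥
  obtain ⟨y, hy, hxy⟩ := Set.mem_iUnion₂.1 (hF (Set.mem_univ x))
  refine ⟨e.symm ⟨y, hy⟩, ?_⟩
  rw [Equiv.apply_symm_apply, hc]
  exact hxy

end Groth.Agent.H22.StrictTransform
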