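import Groth.Agent.H22.StrictTransform.Common
import Groth.Agent.H22.BlowUpComp.Extend
import Groth.Agent.Lib.SchDense.Basic
import Groth.Agent.S1279

/-!
# The strict transform is an isomorphism near a closure after an admissible blow-up
-/

set_option autoImplicit false
set_option maxHeartbeats 1000000

noncomputable section

universe u

open CategoryTheory CategoryTheory.Limits AlgebraicGeometry TopologicalSpace

namespace Groth.Agent.H22.StrictTransform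

open Groth.Agent.Lib

variable {X S : Scheme.{u}}

theorem isIso_restrict_of_le {φ : X ⟶ S} {V V' : S.Opens} (h : V' ≤ V) [IsIso (φ ∣_ V)] :
    IsIso (φ ∣_ V') := by
  have h1 : IsIso (φ ∣_ V ∣_ (V.ι ⁻¹ᵁ V')) := inferInstance
  have h2 := ((MorphismProperty.isomorphisms Scheme.{u}).arrow_mk_iso_iff
    (morphismRestrictRestrict φ V (V.ι ⁻¹ᵁ V'))).1 h1
  have h3 : V.ι ''ᵁ V.ι ⁻¹ᵁ V' = V' := by
    rw [Scheme.Hom.image_preimage_eq_opensRange_inf, Scheme.Opens.opensRange_ι, inf_eq_right.2 h]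
  exact ((MorphismProperty.isomorphisms Scheme.{u}).arrow_mk_iso_iff (morphismRestrictEq φ h3)).1 h2

/-- A compact set inside an open of a scheme has a quasi-compact open neighbourhood inside it. -/
theorem exists_compact_open (K : Set S) (hK : IsCompact K) (O : S.Opens) (h : K ⊆ O) :
    ∃ O' : S.Opens, K ⊆ O' ∧ O' ≤ O ∧ IsCompact (O' : Set S) := by
  classical
  have hloc : ∀ x : K, ∃ A : S.affineOpens, x.1 ∈ A.1 ∧ A.1 ≤ O := fun x => by
    obtain ⟨A, hA, hxA, hle⟩ := exists_isAffineOpen_mem_and_subset (h x.2)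
    exact ⟨⟨A, hA⟩, hxA, hle⟩
  choose A hxA hA using hloc
  obtain ⟨F, hF⟩ := hK.elim_finite_subcover (fun x : K => ((A x).1 : Set S)) (fun x => (A x).1.2)
    fun x hx => Set.mem_iUnion.2 ⟨⟨x, hx⟩, hxA _⟩
  refine ⟨F.sup fun x => (A x).1, fun x hx => ?_, Finset.sup_le fun x _ => hA x, ?_⟩
  · obtain ⟨i, hi, hxi⟩ := Set.mem_iUnion₂.1 (hF hx)
    exact Finset.le_sup (f := fun x : K => (A x).1) hi hxi
  · refine Finset.sup_induction (p := fun U : S.Opens => IsCompact (U : Set S)) ?_ ?_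
      fun x _ => (A x).2.isCompact
    · simp
    · intro U hU U' hU'
      rw [Opens.coe_sup]
      exact hU.union hU'

/-- A blow-up with support exactly the complement of `V` separating `T` from the part of `V`
outside a quasi-compact neighbourhood. -/
theorem exists_separated [CompactSpace S] [QuasiSeparatedSpace S]
    (V : S.Opens) (hV : IsCompact (V : Set S)) (T : Set S) (hTV : T ⊆ V)
    (hT : IsClosed (Subtype.val ⁻¹' T : Set V))
    (W : S.Opens) (hTW : T ⊆ W) (hWV : W ≤ V) :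
    ∃ (I : S.IdealSheafData) (Y : Scheme.{u}) (b₁ : Y ⟶ S) (W₀ : S.Opens) (O' : Y.Opens),
      BlowUp.IsBlowUp b₁ I ∧ Lim.IdealExt.IsFG I ∧ (I.support : Set S) = (V : Set S)ᶜ ∧
      W₀ ≤ W ∧ IsCompact (W₀ : Set S) ∧ IsCompact (O' : Set Y) ∧
      closure (b₁.base ⁻¹' T) ⊆ O' ∧ O' ⊓ b₁ ⁻¹ᵁ V ≤ b₁ ⁻¹ᵁ W₀ := by
  classical
  haveI : CompactSpace {x // x ∈ V} := isCompact_iff_compactSpace.1 hV
  haveI : QuasiSeparatedSpace {x // x ∈ V} := .of_isOpenEmbedding V.2.isOpenEmbedding_subtypeVal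
  have himg : ∀ A : Set S, A ⊆ V →
      (Subtype.val : {x // x ∈ V} → S) '' ((Subtype.val : {x // x ∈ V} → S) ⁻¹' A) = A := fun A hA =>
    Set.ext fun x => ⟨fun ⟨_, hy, he⟩ => he ▸ hy, fun hx => ⟨⟨x, hA hx⟩, hx, rfl⟩⟩
  have hcomp : ∀ A : Set S, A ⊆ V → IsCompact A → IsCompact ((Subtype.val : {x // x ∈ V} → S) ⁻¹' A) :=
    fun A hA hAc => V.2.isOpenEmbedding_subtypeVal.isInducing.isCompact_iff.2
      ((himg A hA).symm ▸ hAc)
  have hT₀ : IsClosed ((Subtype.val : {x // x ∈ V} → S) ⁻¹' T) := hT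
  have hTc : IsCompact T := by
    have h1 : IsCompact (Subtype.val ⁻¹' T : Set {x // x ∈ V}) := hT₀.isCompact
    have h2 := h1.image continuous_subtype_val
    exact (himg T hTV) ▸ h2
  obtain ⟨W₀, hTW₀, hW₀W, hW₀c⟩ := exists_compact_open T hTc W hTW
  -- separate `T` from the part of `V` outside `W₀`
  let Z : Set {x // x ∈ V} := (Subtype.val ⁻¹' (W₀ : Set S))ᶜ
  have hZ : IsClosed Z := (W₀.2.preimage continuous_subtype_val).isClosed_compl
  have hW₀V : IsCompact ((Subtype.val : {x // x ∈ V} → S) ⁻¹' (W₀ : Set S)) :=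
    hcomp _ (fun x hx => hWV (hW₀W hx)) hW₀c
  have hZc : Topology.IsConstructible Z :=
    (IsCompact.isConstructible hW₀V (W₀.2.preimage continuous_subtype_val)).compl
  let TO : S.Opens := V ⊓ ⟨(closure T)ᶜ, isClosed_closure.isOpen_compl⟩
  have hZT : Subtype.val '' Z ⊆ (TO : Set S) := by
    rintro _ ⟨x, hx, rfl⟩
    refine ⟨x.2, fun hcl => hx (hTW₀ ?_)⟩
    obtain ⟨F, hF, hTF⟩ := isClosed_induced_iff.1 hT₀
    have h1 : x.1 ∈ F := by
      by_contra hne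
      obtain ⟨t, ⟨ht1, ht2⟩, htT⟩ :=
        mem_closure_iff.1 hcl _ (hF.isOpen_compl.inter V.2) ⟨hne, x.2⟩
      exact ht1 ((Set.ext_iff.1 hTF ⟨t, ht2⟩).2 htT)
    exact (Set.ext_iff.1 hTF x).1 h1
  obtain ⟨G, hZG, hGO, hGc⟩ := exists_compact_open (Subtype.val '' Z)
    (hZ.isCompact.image continuous_subtype_val) TO hZT
  let T' : Set {x // x ∈ V} := (Subtype.val ⁻¹' (G : Set S))ᶜ
  have hT' : IsClosed T' := (G.2.preimage continuous_subtype_val).isClosed_compl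
  have hT'c : Topology.IsConstructible T' := by
    exact (IsCompact.isConstructible (hcomp _ (fun x hx => (hGO hx).1) hGc)
      (G.2.preimage continuous_subtype_val)).compl
  have hTT' : T ⊆ Subtype.val '' T' := fun t ht =>
    ⟨⟨t, hTV ht⟩, fun h => (hGO h).2 (subset_closure ht), rfl⟩
  obtain ⟨I₁, Y₁, c₁, hc₁, hI₁, hsep⟩ := Groth.Agent.S1279.result V hV T' Z hT' hZ hT'c hZc
    (Set.disjoint_left.2 fun x hx hxZ => hx (hZG ⟨x, hxZ, rfl⟩))
  -- make the support exact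
  obtain ⟨I₀, hI₀, hI₀s⟩ := Flat55.GenericStrataScheme.exists_isFG_support V hV
  let d₀ := BlowUpExists.blProj (I₀.comap c₁)
  have hd₀ : BlowUp.IsBlowUp (d₀ ≫ c₁) (I₁ * I₀) :=
    Lib.Ideal.BlowUp.isBlowUp_comp_mul hc₁ (BlowUpAmple.isBlowUp_blProj _)
  obtain ⟨b₁, hb₁⟩ : ∃ b₁ : BlowUpExists.bl (I₀.comap c₁) ⟶ S, b₁ = d₀ ≫ c₁ := ⟨_, rfl⟩
  rw [← hb₁] at hd₀
  let Y₂ := BlowUpExists.bl (I₀.comap c₁)
  have hIfg : Lim.IdealExt.IsFG (I₁ * I₀) := Flat55.GenericStrataScheme.isFG_mul hI₁.1 hI₀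
  have hIs : ((I₁ * I₀).support : Set S) = (V : Set S)ᶜ := by
    rw [Scheme.IdealSheafData.support_mul, Closeds.coe_sup, hI₀s]
    exact Set.union_eq_right.2 fun x hx hxV => Set.disjoint_left.1 hI₁.2 hx hxV
  haveI : IsProper b₁ := BlowUpExists.isProper_of_isBlowUp hd₀ hIfg
  haveI : CompactSpace Y₂ := QuasiCompact.compactSpace_of_compactSpace b₁
  haveI : QuasiSeparatedSpace Y₂ := quasiSeparatedSpace_of_quasiSeparated b₁
  let O : Y₂.Opens := ⟨(closure (b₁.base ⁻¹' (Subtype.val '' Z)))ᶜ, isClosed_closure.isOpen_compl⟩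
  have hd : ∀ z : Y₂, b₁.base z = c₁.base (d₀ z) := fun z => by
    subst hb₁
    exact Scheme.Hom.comp_apply d₀ c₁ z
  have hmap : ∀ (A : Set S) (y : Y₂), y ∈ closure (b₁.base ⁻¹' A) →
      d₀ y ∈ closure (c₁.base ⁻¹' A) := fun A y hy =>
    map_mem_closure (f := fun z => d₀ z) d₀.continuous hy fun z hz => by
      show c₁.base (d₀ z) ∈ A
      rw [← hd]
      exact hz
  have hTO : closure (b₁.base ⁻¹' T) ⊆ O := by
    intro y hy hyZ
    exact Set.disjoint_left.1 hsep (closure_mono (Set.preimage_mono hTT') (hmap T y hy))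
      (hmap _ y hyZ)
  obtain ⟨O', hTO', hO'O, hO'c⟩ := exists_compact_open _ isClosed_closure.isCompact O hTO
  have hO'W : O' ⊓ b₁ ⁻¹ᵁ V ≤ b₁ ⁻¹ᵁ W₀ := by
    rintro y ⟨hy, hyV⟩
    by_contra hne
    exact hO'O hy (subset_closure ⟨⟨b₁ y, hyV⟩, hne, rfl⟩)
  exact ⟨_, _, b₁, W₀, O', hd₀, hIfg, hIs, hW₀W, hW₀c, hO'c, hTO', hO'W⟩

/-- An admissible blow-up along which a section over an open is defined near a closure. -/
theorem exists_near [CompactSpace S] [QuasiSeparatedSpace S] (f : X ⟶ S) [IsProper f]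
    (V : S.Opens) (hV : IsCompact (V : Set S)) (T : Set S) (hTV : T ⊆ V)
    (hT : IsClosed (Subtype.val ⁻¹' T : Set V))
    (W : S.Opens) (hTW : T ⊆ W) (hWV : W ≤ V) [IsIso (f ∣_ W)] :
    ∃ (K : S.IdealSheafData) (Y : Scheme.{u}) (b : Y ⟶ S) (W' : Y.Opens)
      (σ : (W' : Scheme.{u}) ⟶ X),
      BlowUp.IsBlowUp b K ∧ BlowUp.IsAdmissibleFor V K ∧ (K.support : Set S) = (V : Set S)ᶜ ∧
      closure (b.base ⁻¹' T) ⊆ W' ∧ W' ⊓ b ⁻¹ᵁ V ≤ b ⁻¹ᵁ W ∧ σ ≫ f = W'.ι ≫ b := by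
  obtain ⟨I, Y₂, b₁, W₀, O', hd₀, hIfg, hIs, hW₀W, hW₀c, hO'c, hTO', hO'W⟩ :=
    exists_separated V hV T hTV hT W hTW hWV
  haveI : IsIso (f ∣_ W₀) := isIso_restrict_of_le hW₀W
  haveI : IsProper b₁ := BlowUpExists.isProper_of_isBlowUp hd₀ hIfg
  haveI : CompactSpace Y₂ := QuasiCompact.compactSpace_of_compactSpace b₁
  haveI : QuasiSeparatedSpace Y₂ := quasiSeparatedSpace_of_quasiSeparated b₁
  haveI : CompactSpace (O' : Scheme.{u}) := isCompact_iff_compactSpace.1 hO'c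
  haveI : QuasiSeparatedSpace (O' : Scheme.{u}) :=
    .of_isOpenEmbedding O'.ι.isOpenEmbedding
  haveI : QuasiCompact O'.ι := quasiCompact_iff_compactSpace O'.ι |>.2 inferInstance
  let g : (O' : Scheme.{u}) ⟶ S := O'.ι ≫ b₁
  haveI : QuasiCompact g := inferInstance
  haveI : IsIso (pullback.snd f g ∣_ (g ⁻¹ᵁ W₀)) := isIso_snd_restrict (IsPullback.of_hasPullback f g)
  obtain ⟨K', Y', d', hd', hK', hK's, σ, hσ⟩ :=
    exists_dominating (pullback.snd f g) (g ⁻¹ᵁ W₀) (g.isCompact_preimage hW₀c)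
  obtain ⟨M, hM, hMV, hMK⟩ := BlowUpComp.exists_extend O'.ι (b₁ ⁻¹ᵁ V) (b₁.isCompact_preimage hV)
    K' hK'.1 fun v hv h => Set.disjoint_left.1 hK'.2 h (hO'W ⟨v.2, hv⟩)
  let d := BlowUpExists.blProj M
  have hd : BlowUp.IsBlowUp d M := BlowUpAmple.isBlowUp_blProj M
  obtain ⟨K, hK, hKs, hdb⟩ := BlowUpComp.exists_comp hd₀ hIfg hM hd
  have hres : BlowUp.IsBlowUp (d ∣_ O') K' := hMK ▸ BlowUpComp.isBlowUp_restrict hd O'
  obtain ⟨h, hh, -⟩ := hd'.2 _ (d ∣_ O') hres.1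
  have hKsupp : (K.support : Set S) = (V : Set S)ᶜ := by
    rw [hKs, hIs]
    refine subset_antisymm (Set.union_subset le_rfl ?_) Set.subset_union_left
    rintro _ ⟨y, hy, rfl⟩ hyV
    exact hMV y hyV hy
  refine ⟨K, _, d ≫ b₁, d ⁻¹ᵁ O', h ≫ σ ≫ pullback.fst f g, hdb, ⟨hK, ?_⟩, hKsupp, ?_, ?_, ?_⟩
  · rw [hKsupp]; exact disjoint_compl_left
  · intro y hy
    exact hTO' (map_mem_closure d.continuous hy fun z hz => hz)
  · rintro y ⟨hy, hyV⟩
    exact hW₀W (hO'W ⟨hy, hyV⟩)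
  · simp only [Category.assoc, pullback.condition]
    rw [reassoc_of% hσ, reassoc_of% hh]
    simp only [g, morphismRestrict_ι_assoc]

/-- Where such a section exists, the strict transform is an isomorphism. -/
theorem isIso_restrict_of_section {Y X' : Scheme.{u}} {f : X ⟶ S} [IsSeparated f] {b : Y ⟶ S}
    {K : S.IdealSheafData} {V W : S.Opens} [IsIso (f ∣_ W)]
    {p₁ : X' ⟶ X} {p₂ : X' ⟶ Y} (H : IsPullback p₁ p₂ f b) (hb : BlowUp.IsBlowUp b K)
    (hK : Lim.IdealExt.IsFG K) (hKs : (K.support : Set S) = (V : Set S)ᶜ)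
    {𝒥 : X'.IdealSheafData} (h𝒥 : IsTorsionIdeal ((K.comap f).comap p₁) 𝒥)
    (W' : Y.Opens) (σ : (W' : Scheme.{u}) ⟶ X) (hσ : σ ≫ f = W'.ι ≫ b)
    (hW' : W' ⊓ b ⁻¹ᵁ V ≤ b ⁻¹ᵁ W) :
    IsIso ((𝒥.subschemeι ≫ p₂) ∣_ W') := by
  set q := 𝒥.subschemeι ≫ p₂ with hq
  set r := 𝒥.subschemeι ≫ p₁ with hr
  have hZ := isBlowUp_strict H hb hK h𝒥
  rw [← hr] at hZ
  have hqr : q ≫ b = r ≫ f := by simp only [hq, hr, Category.assoc, H.w]
  have hcart : BlowUp.IsEffCartierIdeal ((K.comap f).comap σ) := by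
    rw [← Scheme.IdealSheafData.comap_comp, hσ, Scheme.IdealSheafData.comap_comp]
    exact Lib.Ideal.EffCartier.isEffCartier_comap_of_flat _ hb.1
  obtain ⟨k, hk, -⟩ := hZ.2 _ σ hcart
  have hkq : k ≫ q = W'.ι := by
    have hc : BlowUp.IsEffCartierIdeal (K.comap (W'.ι ≫ b)) := by
      rw [Scheme.IdealSheafData.comap_comp]
      exact Lib.Ideal.EffCartier.isEffCartier_comap_of_flat _ hb.1
    refine (hb.2 _ _ hc).unique ?_ rfl
    show (k ≫ q) ≫ b = W'.ι ≫ b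
    rw [Category.assoc, hqr, reassoc_of% hk, hσ]
  have hkr : Set.range k ⊆ Set.range (q ⁻¹ᵁ W').ι := by
    rintro _ ⟨t, rfl⟩
    rw [Scheme.Opens.range_ι]
    show q (k t) ∈ W'
    rw [← Scheme.Hom.comp_apply, hkq]
    exact t.2
  refine ⟨IsOpenImmersion.lift (q ⁻¹ᵁ W').ι k hkr, ?_, ?_⟩
  · rw [← cancel_mono (q ⁻¹ᵁ W').ι, Category.assoc, IsOpenImmersion.lift_fac, Category.id_comp]
    have hg : BlowUp.IsEffCartierIdeal ((K.comap f).comap ((q ⁻¹ᵁ W').ι ≫ r)) := by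
      rw [Scheme.IdealSheafData.comap_comp]
      exact Lib.Ideal.EffCartier.isEffCartier_comap_of_flat _ hZ.1
    refine (hZ.2 _ _ hg).unique ?_ rfl
    show ((q ∣_ W') ≫ k) ≫ r = (q ⁻¹ᵁ W').ι ≫ r
    rw [Category.assoc, hk]
    -- the two maps agree off the centre
    let O : (q ⁻¹ᵁ W' : 𝒥.subscheme.Opens).toScheme.Opens := (q ⁻¹ᵁ W').ι ⁻¹ᵁ (q ⁻¹ᵁ (b ⁻¹ᵁ V))
    have hO : CInt.IsSchematicallyDense O := by
      intro T a a' ha
      rw [← sub_eq_zero]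
      refine Lib.Ideal.EffCartier.eq_zero_of_germ_eq_zero_off
        (Lib.Ideal.EffCartier.isEffCartier_comap_of_flat (q ⁻¹ᵁ W').ι hZ.1) _ fun y hy hys => ?_
      have hyO : y ∈ O := by
        by_contra hn
        refine hys ?_
        simp only [Scheme.IdealSheafData.support_comap]
        show f (r ((q ⁻¹ᵁ W').ι y)) ∈ (K.support : Set S)
        rw [hKs, ← Scheme.Hom.comp_apply r f, ← hqr, Scheme.Hom.comp_apply]
        exact hn
      rw [← TopCat.Presheaf.germ_res_apply _ (homOfLE (inf_le_left : T ⊓ O ≤ T)) y ⟨hy, hyO⟩,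
        map_sub, ha, sub_self, map_zero]
    refine SchDense.Basic.ext_of_isSchematicallyDense f ?_ hO ?_
    · rw [Category.assoc, hσ, morphismRestrict_ι_assoc]
      simp only [Category.assoc, ← hqr]
    · have hrange : ∀ (m : (O : Scheme.{u}) ⟶ X), m ≫ f = O.ι ≫ (q ⁻¹ᵁ W').ι ≫ q ≫ b →
          Set.range m ⊆ Set.range (f ⁻¹ᵁ W).ι := by
        rintro m hm _ ⟨t, rfl⟩
        rw [Scheme.Opens.range_ι]
        show f (m t) ∈ W
        rw [← Scheme.Hom.comp_apply, hm]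
        have h1 : q ((q ⁻¹ᵁ W').ι (O.ι t)) ∈ W' ⊓ b ⁻¹ᵁ V := ⟨(O.ι t).2, t.2⟩
        exact hW' h1
      have key : ∀ m m' : (O : Scheme.{u}) ⟶ X, m ≫ f = O.ι ≫ (q ⁻¹ᵁ W').ι ≫ q ≫ b →
          m' ≫ f = O.ι ≫ (q ⁻¹ᵁ W').ι ≫ q ≫ b → m = m' := by
        intro m m' hm hm'
        rw [← IsOpenImmersion.lift_fac (f ⁻¹ᵁ W).ι m (hrange m hm),
          ← IsOpenImmersion.lift_fac (f ⁻¹ᵁ W).ι m' (hrange m' hm')]
        congr 1
        rw [← cancel_mono (f ∣_ W), ← cancel_mono W.ι]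
        simp only [Category.assoc, morphismRestrict_ι, IsOpenImmersion.lift_fac_assoc, hm, hm']
      apply key
      · simp only [Category.assoc, hσ, morphismRestrict_ι_assoc]
      · simp only [Category.assoc, hqr]
  · rw [← cancel_mono W'.ι, Category.assoc, morphismRestrict_ι, IsOpenImmersion.lift_fac_assoc,
      hkq, Category.id_comp]

end Groth.Agent.H22.StrictTransform
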