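import Groth.Agent.Lib.Flat55.GenericStrataScheme
import Groth.Agent.Lib.Ideal.EffCartier
import Mathlib.AlgebraicGeometry.Morphisms.FiniteType
import Mathlib.AlgebraicGeometry.Morphisms.QuasiSeparated

/-!
# The ideal attached to an affine chart of a morphism which is an isomorphism over an open
-/

set_option autoImplicit false
set_option maxHeartbeats 1000000

noncomputable section

universe u

open CategoryTheory CategoryTheory.Limits AlgebraicGeometry TopologicalSpace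

namespace Groth.Agent.H22.StrictTransform

open Groth.Agent.Lib

variable {X S : Scheme.{u}}

/-- An affine chart of `φ` together with an ideal of the base whose blow-up makes the strict
transform of the chart an open of the base. -/
structure Chart (φ : X ⟶ S) (U : S.Opens) where
  P : S.affineOpens
  Q : X.affineOpens
  le : Q.1 ≤ φ ⁻¹ᵁ P.1
  κ : Type u
  σ : Type u
  t : κ → Γ(S, P.1)
  y : σ → Γ(X, Q.1)
  a : κ → σ → Γ(S, P.1)
  rel : ∀ k l, φ.appLE P.1 Q.1 le (a k l) = φ.appLE P.1 Q.1 le (t k) * y l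
  gen : ∀ R : Subring Γ(X, Q.1), (∀ c, φ.appLE P.1 Q.1 le c ∈ R) → (∀ l, y l ∈ R) → R = ⊤
  image : ∀ k, ∀ s ∈ S.basicOpen (t k), s ∈ U ∧ ∃ x ∈ Q.1, φ x = s
  J : S.IdealSheafData
  fg : Lim.IdealExt.IsFG J
  disjoint : ∀ s ∈ U, s ∉ J.support
  t_mem : ∀ k, t k ∈ J.ideal P
  a_mem : ∀ k l, a k l ∈ J.ideal P
  map_le : (J.ideal P).map (φ.appLE P.1 Q.1 le).hom ≤
    (Ideal.span (Set.range t)).map (φ.appLE P.1 Q.1 le).hom

theorem isFG_pow {I : S.IdealSheafData} (h : Lim.IdealExt.IsFG I) (n : ℕ) :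
    Lim.IdealExt.IsFG (I ^ n) := fun V => by
  rw [Scheme.IdealSheafData.ideal_pow, Pi.pow_apply]
  exact Submodule.FG.pow (h V) n

theorem injOn_of_isIso {φ : X ⟶ S} {U : S.Opens} [IsIso (φ ∣_ U)] {x x' : X} (hx : φ x ∈ U)
    (he : φ x' = φ x) : x' = x := by
  have hx' : φ x' ∈ U := by rw [he]; exact hx
  have h : (φ ∣_ U) ⟨x', hx'⟩ = (φ ∣_ U) ⟨x, hx⟩ :=
    Subtype.ext (by simpa using he)
  exact congrArg Subtype.val ((φ ∣_ U).homeomorph.injective h)

theorem isIso_app_of_le {φ : X ⟶ S} {U : S.Opens} [IsIso (φ ∣_ U)] (D : S.Opens) (hD : D ≤ U) :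
    IsIso (φ.app D) := by
  have h : U.ι ''ᵁ (U.ι ⁻¹ᵁ D) = D := by
    rw [Scheme.Hom.image_preimage_eq_opensRange_inf, Scheme.Opens.opensRange_ι, inf_eq_right.2 hD]
  have h1 : IsIso ((φ ∣_ U).app (U.ι ⁻¹ᵁ D)) := inferInstance
  rw [morphismRestrict_app] at h1
  have h2 : IsIso (φ.app (U.ι ''ᵁ (U.ι ⁻¹ᵁ D))) :=
    @IsIso.of_isIso_comp_right _ _ _ _ _ _ _
      (X.presheaf.mapIso (eqToIso (image_morphismRestrict_preimage φ U (U.ι ⁻¹ᵁ D))).op).isIso_hom h1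
  rwa [h] at h2

/-- Clearing denominators over a basic open inside the isomorphism locus. -/
theorem exists_clear {φ : X ⟶ S} {U : S.Opens} [IsIso (φ ∣_ U)] (P : S.affineOpens)
    (Q : X.affineOpens) (le : Q.1 ≤ φ ⁻¹ᵁ P.1) (t : Γ(S, P.1))
    (ht : ∀ s ∈ S.basicOpen t, s ∈ U ∧ ∃ x ∈ Q.1, φ x = s) (y : Γ(X, Q.1)) :
    ∃ (n : ℕ) (a : Γ(S, P.1)),
      φ.appLE P.1 Q.1 le a = φ.appLE P.1 Q.1 le t ^ n * y := by
  let f := φ.appLE P.1 Q.1 le
  have hbe : φ ⁻¹ᵁ S.basicOpen t = X.basicOpen (f t) := by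
    refine le_antisymm (fun x hx => ?_) ?_
    · obtain ⟨hsU, x', hx', he⟩ := ht _ hx
      obtain rfl := injOn_of_isIso hsU he
      rw [Scheme.basicOpen_appLE]
      exact ⟨hx', hx⟩
    · rw [Scheme.basicOpen_appLE]; exact inf_le_right
  haveI := isIso_app_of_le (φ := φ) (S.basicOpen t) fun s hs => (ht s hs).1
  have hsurj : Function.Surjective (φ.appLE (S.basicOpen t) (X.basicOpen (f t)) hbe.ge) := by
    rw [Scheme.Hom.appLE, show (homOfLE hbe.ge).op = (eqToHom hbe.symm).op from rfl]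
    exact (ConcreteCategory.bijective_of_isIso _).2
  haveI := P.2.isLocalization_basicOpen t
  haveI := Q.2.isLocalization_basicOpen (f t)
  obtain ⟨r, hr⟩ := hsurj (algebraMap Γ(X, Q.1) Γ(X, X.basicOpen (f t)) y)
  obtain ⟨⟨a, ⟨_, n, rfl⟩⟩, ha⟩ := IsLocalization.surj (Submonoid.powers t) r
  simp only [map_pow] at ha
  have hcomm : ∀ c : Γ(S, P.1), φ.appLE (S.basicOpen t) (X.basicOpen (f t)) hbe.ge
      (algebraMap Γ(S, P.1) Γ(S, S.basicOpen t) c) = algebraMap Γ(X, Q.1) _ (f c) := fun c => by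
    change (S.presheaf.map (homOfLE (S.basicOpen_le t)).op ≫ φ.appLE _ _ hbe.ge) c =
      (φ.appLE P.1 Q.1 le ≫ X.presheaf.map (homOfLE (X.basicOpen_le (f t))).op) c
    rw [Scheme.Hom.map_appLE, Scheme.Hom.appLE_map]
  have h1 := congrArg (φ.appLE (S.basicOpen t) (X.basicOpen (f t)) hbe.ge) ha
  rw [map_mul, map_pow, hr, hcomm, hcomm, ← map_pow, ← map_mul] at h1
  obtain ⟨⟨_, m, rfl⟩, hm⟩ := (IsLocalization.eq_iff_exists (Submonoid.powers (f t)) _).1 h1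
  refine ⟨m + n, t ^ m * a, ?_⟩
  simp only [map_mul, map_pow] at hm ⊢
  rw [← hm]
  ring

/-- Charts exist on any affine pair. -/
theorem exists_chart (φ : X ⟶ S) [IsSeparated φ] [LocallyOfFiniteType φ] [QuasiCompact φ]
    [CompactSpace S] [QuasiSeparatedSpace S] (U : S.Opens) (hU : IsCompact (U : Set S))
    [IsIso (φ ∣_ U)] (I : S.IdealSheafData) (hI : Lim.IdealExt.IsFG I)
    (hIU : (I.support : Set S) = (U : Set S)ᶜ)
    (P : S.affineOpens) (Q : X.affineOpens) (le : Q.1 ≤ φ ⁻¹ᵁ P.1) :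
    ∃ c : Chart φ U, c.Q = Q := by
  classical
  haveI : QuasiSeparatedSpace X := quasiSeparatedSpace_of_quasiSeparated φ
  set f := φ.appLE P.1 Q.1 le with hf
  -- generators
  obtain ⟨s, hs⟩ : ∃ s : Finset Γ(X, Q.1),
      ∀ R : Subring Γ(X, Q.1), (∀ c, f c ∈ R) → (∀ l : s, (l : Γ(X, Q.1)) ∈ R) → R = ⊤ := by
    have h := φ.finiteType_appLE P.2 Q.2 le
    algebraize [f.hom]
    obtain ⟨s, hs⟩ := (inferInstance : Algebra.FiniteType Γ(S, P.1) Γ(X, Q.1)).out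
    refine ⟨s, fun R h1 h2 => eq_top_iff.2 fun x hx0 => ?_⟩
    clear hx0
    have hx : x ∈ Algebra.adjoin Γ(S, P.1) (s : Set Γ(X, Q.1)) := hs ▸ trivial
    induction hx using Algebra.adjoin_induction with
    | mem z hz => exact h2 ⟨z, hz⟩
    | algebraMap c => exact h1 c
    | add _ _ _ _ ha hb => exact R.add_mem ha hb
    | mul _ _ _ _ ha hb => exact R.mul_mem ha hb
  -- the image of the chart in the isomorphism locus
  let O : Set S := (fun x => φ x) '' ((Q.1 : Set X) ∩ (φ ⁻¹ᵁ U : X.Opens))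
  have hOc : IsCompact O := (QuasiSeparatedSpace.inter_isCompact _ _ Q.1.2 Q.2.isCompact
    (φ ⁻¹ᵁ U).2 (φ.isCompact_preimage hU)).image φ.continuous
  have hOo : IsOpen O := by
    have : O = U.ι '' ((φ ∣_ U).homeomorph '' ((φ ⁻¹ᵁ U).ι ⁻¹' (Q.1 : Set X))) := by
      ext s
      constructor
      · rintro ⟨x, ⟨hxQ, hxU⟩, rfl⟩
        exact ⟨_, ⟨⟨x, hxU⟩, hxQ, rfl⟩, by simp⟩
      · rintro ⟨_, ⟨x, hxQ, rfl⟩, rfl⟩
        exact ⟨x.1, ⟨hxQ, x.2⟩, by simp⟩
    rw [this]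
    exact U.ι.isOpenEmbedding.isOpenMap _
      ((φ ∣_ U).homeomorph.isOpenMap _ (Q.1.2.preimage (φ ⁻¹ᵁ U).ι.continuous))
  have hOP : ∀ x ∈ O, x ∈ P.1 := by
    rintro _ ⟨x, hx, rfl⟩; exact le hx.1
  have hloc : ∀ x : O, ∃ t : Γ(S, P.1), (S.basicOpen t : Set S) ⊆ O ∧ x.1 ∈ S.basicOpen t := by
    intro x
    obtain ⟨t, ht, hxt⟩ := P.2.exists_basicOpen_le (V := ⟨O, hOo⟩) ⟨x.1, x.2⟩ (hOP _ x.2)
    exact ⟨t, ht, hxt⟩
  choose tt htO htx using hloc
  obtain ⟨F, hF⟩ := hOc.elim_finite_subcover (fun x : O => (S.basicOpen (tt x) : Set S))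
    (fun x => (S.basicOpen (tt x)).2) fun x hx => Set.mem_iUnion.2 ⟨⟨x, hx⟩, htx _⟩
  have himage : ∀ x : O, ∀ z ∈ S.basicOpen (tt x), z ∈ U ∧ ∃ w ∈ Q.1, φ w = z := by
    intro x z hz
    obtain ⟨w, hw, rfl⟩ := htO x hz
    exact ⟨hw.2, w, hw.1, rfl⟩
  choose n b hb using fun (x : F) (l : s) => exists_clear P Q le (tt x.1) (himage x.1) l.1
  obtain ⟨N, hN⟩ : ∃ N : ℕ, 0 < N ∧ ∀ x l, n x l ≤ N :=
    ⟨(Finset.univ.sup fun x => Finset.univ.sup (n x)) + 1, Nat.succ_pos _, fun x l =>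
      le_trans ((Finset.le_sup (f := n x) (Finset.mem_univ l)).trans
        (Finset.le_sup (f := fun x => Finset.univ.sup (n x)) (Finset.mem_univ x))) (Nat.le_succ _)⟩
  let t : F → Γ(S, P.1) := fun x => tt x.1 ^ N
  let a : F → s → Γ(S, P.1) := fun x l => tt x.1 ^ (N - n x l) * b x l
  have hrel : ∀ x l, f (a x l) = f (t x) * l.1 := fun x l => by
    simp only [a, t, map_mul, map_pow, hb, hf]
    rw [← mul_assoc, ← pow_add, Nat.sub_add_cancel (hN.2 x l)]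
  have hbasic : ∀ x : F, S.basicOpen (t x) = S.basicOpen (tt x.1) := fun x =>
    S.basicOpen_pow (tt x.1) hN.1
  -- the centre is killed by a power
  have hrad : (I.ideal P).map f.hom ≤ ((Ideal.span (Set.range t)).map f.hom).radical := by
    rw [Ideal.radical_eq_sInf]
    refine le_sInf ?_
    rintro p ⟨hp, hpp⟩
    rw [Ideal.map_le_iff_le_comap]
    intro e he
    let q : PrimeSpectrum Γ(X, Q.1) := ⟨p, hpp⟩
    let x := Q.2.fromSpec q
    have hxQ : x ∈ Q.1 := by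
      rw [← SetLike.mem_coe, ← Q.2.range_fromSpec]; exact Set.mem_range_self q
    have hmem : ∀ c : Γ(S, P.1), φ x ∈ S.basicOpen c ↔ f c ∉ p := by
      intro c
      rw [show (f c ∉ p) ↔ x ∈ X.basicOpen (f c) from ?_, hf, Scheme.basicOpen_appLE]
      · exact ⟨fun h => ⟨hxQ, h⟩, fun h => h.2⟩
      · rw [Lib.Ideal.EffCartier.mem_basicOpen_iff_notMem_prime Q.2 hxQ,
          show Q.2.primeIdealOf ⟨x, hxQ⟩ = q from
            Q.2.fromSpec.isOpenEmbedding.injective (Q.2.fromSpec_primeIdealOf _)]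
    have hxU : φ x ∉ U := by
      intro hU'
      obtain ⟨i, hi, hxi⟩ := Set.mem_iUnion₂.1 (hF ⟨x, ⟨hxQ, hU'⟩, rfl⟩)
      have h1 : φ x ∈ S.basicOpen (t ⟨i, hi⟩) := by rw [hbasic]; exact hxi
      exact (hmem _).1 h1 (hp (Ideal.mem_map_of_mem _ (Ideal.subset_span ⟨_, rfl⟩)))
    by_contra hne
    have h1 : φ x ∈ S.basicOpen e := (hmem e).2 hne
    have hxs : φ x ∈ I.support := by rw [← SetLike.mem_coe, hIU]; exact hxU
    exact (S.mem_zeroLocus_iff _ _).1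
      ((Scheme.IdealSheafData.mem_support_iff_of_mem (U := P) (le hxQ)).1 hxs) e he h1
  obtain ⟨M, hM⟩ := Ideal.exists_pow_le_of_le_radical_of_fg hrad ((hI P).map _)
  let L : Ideal Γ(S, P.1) :=
    Ideal.span (Set.range t ∪ Set.range fun xl : F × s => a xl.1 xl.2) ⊔ (I ^ M).ideal P
  have hL : L.FG := Submodule.FG.sup
    (Submodule.fg_span ((Set.finite_range _).union (Set.finite_range _))) (isFG_pow hI M P)
  obtain ⟨J', -, hJ', hJ'P⟩ := Lim.IdealExt.exists_isFG_le ⊤ P L hL le_top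
  refine ⟨{ P := P, Q := Q, le := le, κ := F, σ := s, t := t, y := fun l => l.1, a := a,
            rel := hrel, gen := hs, image := ?_, J := J' ⊔ I ^ M,
            fg := Lim.IdealExt.isFG_sup hJ' (isFG_pow hI M), disjoint := ?_,
            t_mem := ?_, a_mem := ?_, map_le := ?_ }, rfl⟩
  · intro x z hz
    rw [hbasic] at hz
    exact himage _ z hz
  · intro z hz hzs
    rw [← SetLike.mem_coe, Flat55.GenericStrataScheme.support_sup] at hzs
    have h2 := hzs.2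
    rcases Nat.eq_zero_or_pos M with rfl | hM0
    · simp at h2
    · have h3 : z ∈ (I.support : Set S) := by
        rwa [Scheme.IdealSheafData.support_pow _ M hM0.ne'] at h2
      rw [hIU] at h3
      exact h3 hz
  · intro x
    rw [Scheme.IdealSheafData.ideal_sup, Pi.sup_apply, hJ'P]
    exact Ideal.mem_sup_left (Ideal.mem_sup_left (Ideal.subset_span (Or.inl ⟨x, rfl⟩)))
  · intro x l
    rw [Scheme.IdealSheafData.ideal_sup, Pi.sup_apply, hJ'P]
    exact Ideal.mem_sup_left (Ideal.mem_sup_left (Ideal.subset_span (Or.inr ⟨(x, l), rfl⟩)))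
  · rw [Scheme.IdealSheafData.ideal_sup, Pi.sup_apply, hJ'P, ← hf, Ideal.map_sup, Ideal.map_sup,
      Scheme.IdealSheafData.ideal_pow, Pi.pow_apply, Ideal.map_pow, sup_le_iff, sup_le_iff]
    refine ⟨⟨?_, hM⟩, hM⟩
    rw [Ideal.map_span, Ideal.span_le]
    rintro _ ⟨_, (⟨x, rfl⟩ | ⟨⟨x, l⟩, rfl⟩), rfl⟩
    · exact Ideal.mem_map_of_mem _ (Ideal.subset_span ⟨x, rfl⟩)
    · change f (a x l) ∈ _
      rw [hrel]
      exact Ideal.mul_mem_right _ _ (Ideal.mem_map_of_mem _ (Ideal.subset_span ⟨x, rfl⟩))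

end Groth.Agent.H22.StrictTransform
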