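import Groth.Agent.H22.StrictTransform.Module
import Groth.Agent.Lib.Modules.StalkModule
import Groth.Prelude.Def_CInt

/-!
# Fitting ideals of a module that is free on a big open
-/

set_option autoImplicit false
set_option maxHeartbeats 1000000

noncomputable section

universe u

open CategoryTheory CategoryTheory.Limits AlgebraicGeometry TopologicalSpace Opposite

namespace Groth.Agent.H22.StrictTransform

open Groth.Agent Groth.Agent.Lib

variable {X : Scheme.{u}} {F : X.Modules}

/-- A free restriction along an open immersion gives free stalks of the same rank. -/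
theorem stalk_of_free' {Y : Scheme.{u}} (j : Y ⟶ X) [IsOpenImmersion j] {n : ℕ}
    (i : F.restrict j ≅ FlatMod.freeMod Y n) (y : Y) :
    Module.Free (X.presheaf.stalk (j y)) (F.presheaf.stalk (j y)) ∧
      Module.finrank (X.presheaf.stalk (j y)) (F.presheaf.stalk (j y)) = n ∧
      Module.Finite (X.presheaf.stalk (j y)) (F.presheaf.stalk (j y)) := by
  let e := ((Modules.StalkModule.stalkModFunctor Y y).mapIso i).toLinearEquiv
  let b := Modules.FreeStalk.stalkBasis Y n y
  haveI : Module.Free (Y.presheaf.stalk y) ((F.restrict j).presheaf.stalk y) :=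
    Module.Free.of_basis (b.map e.symm)
  haveI := TensorMod.FPConv.free_stalk_of_restrict j F y
  have h2 : Module.rank (X.presheaf.stalk (j y)) (F.presheaf.stalk (j y)) =
      Module.rank (Y.presheaf.stalk y) ((F.restrict j).presheaf.stalk y) :=
    rank_eq_of_equiv_equiv (j.stalkMap y)
      (Modules.StalkRestrict.restrictStalkAddEquiv j F y).symm
      (ConcreteCategory.bijective_of_isIso _) fun r m => by
        apply (Modules.StalkRestrict.restrictStalkAddEquiv j F y).injective
        rw [AddEquiv.apply_symm_apply]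
        refine Eq.trans ?_ (Modules.StalkRestrict.restrictStalkAddEquiv_smul j F y r _).symm
        rw [AddEquiv.apply_symm_apply]
  have h3 : Module.rank (X.presheaf.stalk (j y)) (F.presheaf.stalk (j y)) = (n : Cardinal) :=
    h2.trans (e.rank_eq.trans ((rank_eq_card_basis b).trans (by rw [Fintype.card_fin])))
  exact ⟨‹_›, Module.finrank_eq_of_rank_eq h3, Module.finite_of_rank_eq_nat h3⟩

/-- The stalks on an open where `F` is free of rank `r`. -/
theorem fitt_stalk_of_free (U : X.Opens) {r : ℕ} (hfree : FlatMod.IsFinLocFreeOfRank r (F.restrict U.ι))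
    {x : X} (hx : x ∈ U) (j : ℕ) :
    (j < r → Fitt.ideal (X.presheaf.stalk x) (F.presheaf.stalk x) j = ⊥) ∧
      (r ≤ j → Fitt.ideal (X.presheaf.stalk x) (F.presheaf.stalk x) j = ⊤) := by
  obtain ⟨V, hxV, ⟨i⟩⟩ := hfree ⟨x, hx⟩
  obtain ⟨h1, hr, hfin⟩ := stalk_of_free' (F := F) (V.ι ≫ U.ι)
    ((Scheme.Modules.restrictFunctorComp V.ι U.ι).app F ≪≫ i) ⟨⟨x, hx⟩, hxV⟩
  change Module.Free (X.presheaf.stalk x) (F.presheaf.stalk x) at h1
  change Module.Finite (X.presheaf.stalk x) (F.presheaf.stalk x) at hfin
  change Module.finrank (X.presheaf.stalk x) (F.presheaf.stalk x) = r at hr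
  exact ⟨fun h => H25.Fitting.ideal_eq_bot_of_free (hr.symm ▸ h),
    fun h => H25.Fitting.ideal_eq_top _ (Module.finBasis _ _).span_eq (hr.le.trans h)⟩

/-- An ideal sheaf with vanishing germs on a schematically dense open vanishes. -/
theorem fitt_eq_bot_of_dense [F.IsQuasicoherent] [SheafOfModules.IsFiniteType (R := X.ringCatSheaf) F]
    (U : X.Opens) (hU : CInt.IsSchematicallyDense U) {r j : ℕ}
    (hfree : FlatMod.IsFinLocFreeOfRank r (F.restrict U.ι)) (hj : j < r) :
    Fitt.sheafIdeal F j = ⊥ := by
  refine Scheme.IdealSheafData.ext (funext fun V => ?_)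
  rw [Scheme.IdealSheafData.ideal_bot]
  refine le_bot_iff.1 fun a ha => hU V.1 ?_
  rw [map_zero]
  refine TopCat.Presheaf.section_ext X.sheaf _ _ 0 fun y hy => ?_
  change X.presheaf.germ _ y hy _ = X.presheaf.germ _ y hy 0
  rw [map_zero]
  erw [TopCat.Presheaf.germ_res_apply]
  have h := Ideal.mem_map_of_mem (X.presheaf.germ V.1 y hy.1).hom ha
  rw [FittSheaf.map_sheafIdeal F V hy.1 j, (fitt_stalk_of_free U hfree hy.2 j).1 hj, Ideal.mem_bot] at h
  exact h

/-- Lower Fitting ideals of the pullback vanish if they do off the centre. -/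
theorem fitt_pullback_eq_bot [F.IsQuasicoherent] [SheafOfModules.IsFiniteType (R := X.ringCatSheaf) F]
    {X' : Scheme.{u}} {b : X' ⟶ X} {I : X.IdealSheafData} (hI : BlowUp.IsEffCartierIdeal (I.comap b))
    (U : X.Opens) (hU : ∀ x, x ∉ I.support → x ∈ U) {r j : ℕ}
    (hfree : FlatMod.IsFinLocFreeOfRank r (F.restrict U.ι)) (hj : j < r) :
    Fitt.sheafIdeal ((Scheme.Modules.pullback b).obj F) j = ⊥ := by
  haveI := QCoh.Pullback.isQCoh_pullback b F
  haveI := Modules.SupportOps.isFT_pullback b F
  refine Scheme.IdealSheafData.ext (funext fun V => ?_)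
  rw [Scheme.IdealSheafData.ideal_bot]
  refine le_bot_iff.1 fun a ha => Ideal.EffCartier.eq_zero_of_germ_eq_zero_off hI a fun y hy hys => ?_
  have h := Ideal.mem_map_of_mem (X'.presheaf.germ V.1 y hy).hom ha
  rw [FittSheaf.map_sheafIdeal _ V hy, FittSheaf.fitt_pullback_stalk,
    (fitt_stalk_of_free U hfree (hU _ (by rwa [Scheme.IdealSheafData.support_comap] at hys)) j).1 hj,
    Ideal.map_bot, Ideal.mem_bot] at h
  exact h

end Groth.Agent.H22.StrictTransform

namespace Groth.Agent.H22.StrictTransform

open Groth.Agent.Lib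

/-- A kernel vanishes on an open where the map is injective on stalks. -/
theorem isZero_kernel_restrict {X : Scheme.{u}} {P G : X.Modules} (π : P ⟶ G) (U : X.Opens)
    (h : ∀ x ∈ U, Function.Injective (Modules.StalkModule.stalkMapₗ π x)) :
    IsZero ((kernel π).restrict U.ι) := by
  rw [IsZero.iff_id_eq_zero]
  refine Modules.StalkModule.hom_ext_stalkMapₗ fun y => LinearMap.ext fun v => ?_
  rw [Modules.StalkModule.stalkMapₗ_id, Modules.StalkModule.stalkMapₗ_zero, LinearMap.id_apply,
    LinearMap.zero_apply]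
  apply (Modules.StalkRestrict.restrictStalkAddEquiv U.ι (kernel π) y).injective
  rw [map_zero]
  apply (Modules.StalkModule.mono_iff_stalkMapₗ_injective (kernel.ι π)).1 inferInstance (U.ι y)
  rw [map_zero]
  apply h (U.ι y) y.2
  rw [map_zero, ← LinearMap.comp_apply, ← Modules.StalkModule.stalkMapₗ_comp, kernel.condition,
    Modules.StalkModule.stalkMapₗ_zero, LinearMap.zero_apply]

end Groth.Agent.H22.StrictTransform
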