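import Groth.Agent.H22.StrictTransform.CommonTarget
import Groth.Agent.H22.BlowUpComp.Compose

/-!
# A common target of several admissible blow-ups
-/

set_option autoImplicit false
set_option maxHeartbeats 1000000

noncomputable section

universe u

open CategoryTheory CategoryTheory.Limits AlgebraicGeometry TopologicalSpace

namespace Groth.Agent.H22.StrictTransform

open Groth.Agent.Lib

/-- Blow-ups commute with flat base change. -/
theorem isBlowUp_pullback_fst {X X' Y : Scheme.{u}} {b : X' ⟶ X} {I : X.IdealSheafData}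
    (hb : BlowUp.IsBlowUp b I) (o : Y ⟶ X) [Flat o] :
    BlowUp.IsBlowUp (pullback.fst o b) (I.comap o) := by
  refine ⟨?_, fun T g hg => ?_⟩
  · rw [← Scheme.IdealSheafData.comap_comp, pullback.condition, Scheme.IdealSheafData.comap_comp]
    exact Lib.Ideal.EffCartier.isEffCartier_comap_of_flat _ hb.1
  · obtain ⟨h, hh, huniq⟩ := hb.2 T (g ≫ o) (by rw [Scheme.IdealSheafData.comap_comp]; exact hg)
    refine ⟨pullback.lift g h hh.symm, pullback.lift_fst _ _ _, fun k hk => ?_⟩
    have hk' : k ≫ pullback.fst o b = g := hk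
    refine pullback.hom_ext (hk'.trans (pullback.lift_fst _ _ _).symm) ?_
    rw [pullback.lift_snd]
    refine huniq _ ?_
    show (k ≫ pullback.snd o b) ≫ b = g ≫ o
    rw [Category.assoc, ← pullback.condition, reassoc_of% hk']

theorem exists_common_target_many {S U : Scheme.{u}} [CompactSpace S] [QuasiSeparatedSpace S]
    (gU : U ⟶ S) [IsSeparated gU] [QuasiCompact gU] [LocallyOfFiniteType gU] :
    ∀ (n : ℕ) (X : Fin n → Scheme.{u}) (g : ∀ i, X i ⟶ S),
      (∀ i, IsSeparated (g i) ∧ QuasiCompact (g i) ∧ LocallyOfFiniteType (g i)) →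
      ∀ (j : ∀ i, U ⟶ X i) [∀ i, IsOpenImmersion (j i)], (∀ i, j i ≫ g i = gU) →
    ∃ (Xc : Scheme.{u}) (q : Xc ⟶ S) (_ : IsSeparated q) (_ : QuasiCompact q)
      (_ : LocallyOfFiniteType q) (v : U ⟶ Xc) (𝓘 : ∀ i, (X i).IdealSheafData)
      (X' : Fin n → Scheme.{u}) (b : ∀ i, X' i ⟶ X i) (o : ∀ i, X' i ⟶ Xc) (u : ∀ i, U ⟶ X' i),
      IsOpenImmersion v ∧ v ≫ q = gU ∧
      (∀ i, BlowUp.IsBlowUp (b i) (𝓘 i) ∧ BlowUp.IsAdmissibleFor (j i).opensRange (𝓘 i) ∧
        IsOpenImmersion (o i) ∧ o i ≫ q = b i ≫ g i ∧ u i ≫ b i = j i ∧ u i ≫ o i = v) ∧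
      Set.range v ∪ (⋃ i, Set.range (o i)) = Set.univ
  | 0, X, g, _, j, _, _ =>
    ⟨U, gU, inferInstance, inferInstance, inferInstance, 𝟙 U, fun i => i.elim0, fun i => i.elim0,
      fun i => i.elim0, fun i => i.elim0, fun i => i.elim0, inferInstance, Category.id_comp _,
      fun i => i.elim0, Set.eq_univ_of_forall fun x => Or.inl ⟨x, rfl⟩⟩
  | n + 1, X, g, hg, j, hjo, hjg => by
    obtain ⟨Xc, q, hqs, hqc, hql, v, 𝓘, X', b, o, u, hv, hvq, hall, hcov⟩ :=
      exists_common_target_many gU n (fun i => X i.castSucc) (fun i => g i.castSucc)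
        (fun i => hg _) (fun i => j i.castSucc) (fun i => hjg _)
    haveI := hqs; haveI := hqc; haveI := hql; haveI := hv
    haveI := (hg (Fin.last n)).1; haveI := (hg (Fin.last n)).2.1; haveI := (hg (Fin.last n)).2.2
    haveI := hjo (Fin.last n)
    obtain ⟨Y, p, hps, hpl, hpc, I₁, I₂, A, B, c₁, c₂, o₁, o₂, u₁, u₂, hc₁, hI₁, hc₂, hI₂, ho₁,
      ho₂, hop₁, hop₂, huc₁, huc₂, huo, hY⟩ := exists_common_target gU (g (Fin.last n)) q
        (j (Fin.last n)) v (hjg _) hvq
    haveI := ho₂
    have key : ∀ i : Fin n, ∃ (K : (X i.castSucc).IdealSheafData) (u' : U ⟶ pullback (o i) c₂),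
        BlowUp.IsBlowUp (pullback.fst (o i) c₂ ≫ b i) K ∧
        BlowUp.IsAdmissibleFor (j i.castSucc).opensRange K ∧
        IsOpenImmersion (pullback.snd (o i) c₂ ≫ o₂) ∧
        (pullback.snd (o i) c₂ ≫ o₂) ≫ p = (pullback.fst (o i) c₂ ≫ b i) ≫ g i.castSucc ∧
        u' ≫ pullback.fst (o i) c₂ ≫ b i = j i.castSucc ∧
        u' ≫ pullback.snd (o i) c₂ ≫ o₂ = u₂ ≫ o₂ := by
      intro i
      obtain ⟨hb, h𝓘, hoi, hoq, hub, huv⟩ := hall i
      haveI := hoi
      haveI := hjo i.castSucc
      haveI := (hg i.castSucc).1; haveI := (hg i.castSucc).2.1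
      haveI : CompactSpace ↥(X i.castSucc) :=
        QuasiCompact.compactSpace_of_compactSpace (g i.castSucc)
      haveI : QuasiSeparatedSpace ↥(X i.castSucc) :=
        quasiSeparatedSpace_of_quasiSeparated (g i.castSucc)
      obtain ⟨K, hK, hKs, hKb⟩ := BlowUpComp.exists_comp hb h𝓘.1 (isFG_comap' (o i) hI₂.1)
        (isBlowUp_pullback_fst hc₂ (o i))
      refine ⟨K, pullback.lift (u i) u₂ (huv.trans huc₂.symm), hKb, ⟨hK, ?_⟩, inferInstance, ?_, ?_, ?_⟩
      · rw [hKs, Set.disjoint_union_left]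
        refine ⟨h𝓘.2, Set.disjoint_left.2 ?_⟩
        rintro _ ⟨x', hx', rfl⟩ ⟨t, ht⟩
        rw [SetLike.mem_coe, Scheme.IdealSheafData.support_comap] at hx'
        refine Set.disjoint_left.1 hI₂.2 hx' ?_
        -- the blow-up does nothing near the open
        have hoff : b i x' ∉ (𝓘 i).support := fun h => Set.disjoint_left.1 h𝓘.2 h ⟨t, ht⟩
        haveI := Lib.Ideal.BlowUp.isIso_off_center hb
        have hut : u i t = x' := injOn_of_isIso (φ := b i) (U := (off (𝓘 i))) hoff
          (by rw [← Scheme.Hom.comp_apply (u i), hub]; exact ht)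
        exact ⟨t, by rw [← hut, ← Scheme.Hom.comp_apply, huv]⟩
      · rw [Category.assoc, hop₂, ← pullback.condition_assoc, hoq, Category.assoc]
      · rw [pullback.lift_fst_assoc, hub]
      · rw [pullback.lift_snd_assoc]
    choose K u' h1 h2 h3 h4 h5 h6 using key
    haveI := ho₁
    haveI : IsOpenImmersion (u₂ ≫ o₂) := by
      obtain ⟨-, hI2⟩ := hI₂
      haveI := Lib.Ideal.BlowUp.isIso_off_center hc₂
      have hr : Set.range u₂ ⊆ Set.range (c₂ ⁻¹ᵁ (off I₂)).ι := by
        rintro _ ⟨t, rfl⟩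
        rw [Scheme.Opens.range_ι]
        show c₂ (u₂ t) ∉ I₂.support
        rw [← Scheme.Hom.comp_apply, huc₂]
        exact fun h => Set.disjoint_left.1 hI2 h ⟨t, rfl⟩
      let k := IsOpenImmersion.lift (c₂ ⁻¹ᵁ (off I₂)).ι u₂ hr
      have hk : k ≫ (c₂ ⁻¹ᵁ (off I₂)).ι = u₂ := IsOpenImmersion.lift_fac _ _ _
      haveI : IsOpenImmersion (k ≫ (c₂ ∣_ (off I₂)) ≫ (off I₂).ι) := by
        rw [morphismRestrict_ι, reassoc_of% hk, huc₂]; infer_instance
      haveI : IsOpenImmersion k :=
        IsOpenImmersion.of_comp k ((c₂ ∣_ (off I₂)) ≫ (off I₂).ι)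
      rw [← hk]; infer_instance
    refine ⟨Y, p, hps, hpc, hpl, u₂ ≫ o₂,
      Fin.lastCases I₁ K, Fin.lastCases A (fun i => pullback (o i) c₂),
      fun i => ?_, fun i => ?_, fun i => ?_, inferInstance, ?_, ?_, ?_⟩
    · induction i using Fin.lastCases with
      | last => exact (eqToHom (by simp)) ≫ c₁
      | cast i => exact (eqToHom (by simp)) ≫ pullback.fst (o i) c₂ ≫ b i
    · induction i using Fin.lastCases with
      | last => exact (eqToHom (by simp)) ≫ o₁
      | cast i => exact (eqToHom (by simp)) ≫ pullback.snd (o i) c₂ ≫ o₂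
    · induction i using Fin.lastCases with
      | last => exact u₁ ≫ eqToHom (by simp)
      | cast i => exact u' i ≫ eqToHom (by simp)
    · rw [Category.assoc, hop₂, reassoc_of% huc₂, hvq]
    · intro i
      induction i using Fin.lastCases with
      | last =>
        simp only [Fin.lastCases_last]
        exact ⟨isBlowUp_iso_comp hc₁ _, hI₁, inferInstance, by simp [hop₁], by simp [huc₁],
          by simp [huo]⟩
      | cast i =>
        haveI := h3 i
        simp only [Fin.lastCases_castSucc]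
        exact ⟨isBlowUp_iso_comp (h1 i) _, h2 i, inferInstance,
          by simp only [Category.assoc] at h4 ⊢; rw [h4],
          by simp only [Category.assoc, eqToHom_trans_assoc, eqToHom_refl, Category.id_comp]; exact h5 i,
          by simp only [Category.assoc, eqToHom_trans_assoc, eqToHom_refl, Category.id_comp]; exact h6 i⟩
    · refine Set.eq_univ_of_forall fun y => ?_
      rcases hY.ge (Set.mem_univ y) with ⟨a, rfl⟩ | ⟨z, rfl⟩
      · refine Or.inr (Set.mem_iUnion.2 ⟨Fin.last n, ?_⟩)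
        simp only [Fin.lastCases_last, Scheme.Hom.comp_base, TopCat.coe_comp]
        rw [Set.range_comp, (Function.Surjective.range_eq (Scheme.Hom.surjective (eqToHom _))),
          Set.image_univ]
        exact ⟨a, rfl⟩
      · rcases hcov.ge (trivial : c₂ z ∈ Set.univ) with ⟨t, ht⟩ | h
        · left
          refine ⟨t, ?_⟩
          haveI := Lib.Ideal.BlowUp.isIso_off_center hc₂
          have : u₂ t = z := injOn_of_isIso (φ := c₂) (U := (off I₂)) (x := z) (x' := u₂ t) (by
              show c₂ z ∉ I₂.support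
              rw [show c₂ z = v t from ht.symm]
              exact fun h => Set.disjoint_left.1 hI₂.2 h ⟨t, rfl⟩)
            (by rw [← Scheme.Hom.comp_apply, huc₂]; exact ht)
          rw [Scheme.Hom.comp_apply, this]
        · obtain ⟨i, a, ha⟩ := Set.mem_iUnion.1 h
          obtain ⟨w, -, hw⟩ := Scheme.Pullback.exists_preimage_pullback a z ha
          refine Or.inr (Set.mem_iUnion.2 ⟨i.castSucc, ?_⟩)
          simp only [Fin.lastCases_castSucc, Scheme.Hom.comp_base, TopCat.coe_comp]
          rw [Set.range_comp, (Function.Surjective.range_eq (Scheme.Hom.surjective (eqToHom _))),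
            Set.image_univ]
          exact ⟨w, congrArg o₂ hw⟩

end Groth.Agent.H22.StrictTransform
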