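import Groth.Agent.H22.StrictTransform.Common
import Groth.Agent.H22.BlowUpComp.Extend

/-!
# Two birational morphisms become open immersions after admissible blow-ups
-/

set_option autoImplicit false
set_option maxHeartbeats 1000000

noncomputable section

universe u

open CategoryTheory CategoryTheory.Limits AlgebraicGeometry TopologicalSpace

namespace Groth.Agent.H22.StrictTransform

open Groth.Agent.Lib

variable {X Y : Scheme.{u}}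

/-- Blow-ups of an open of an admissible blow-up extend to admissible blow-ups. -/
theorem exists_lift_openImmersion [CompactSpace Y] [QuasiSeparatedSpace Y] (U : Y.Opens)
    (hU : IsCompact (U : Set Y)) {Y' X' X'' : Scheme.{u}} {c : Y' ⟶ Y} {J : Y.IdealSheafData}
    (hc : BlowUp.IsBlowUp c J) (hJ : BlowUp.IsAdmissibleFor U J) (j : X' ⟶ Y') [IsOpenImmersion j]
    [QuasiCompact j] {L : X'.IdealSheafData} (g : X'' ⟶ X') (hg : BlowUp.IsBlowUp g L)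
    (hL : BlowUp.IsAdmissibleFor ((j ≫ c) ⁻¹ᵁ U) L) :
    ∃ (K : Y.IdealSheafData) (Y'' : Scheme.{u}) (c' : Y'' ⟶ Y) (j' : X'' ⟶ Y''),
      BlowUp.IsBlowUp c' K ∧ BlowUp.IsAdmissibleFor U K ∧ IsOpenImmersion j' ∧
      j' ≫ c' = g ≫ j ≫ c := by
  haveI : IsProper c := BlowUpExists.isProper_of_isBlowUp hc hJ.1
  haveI : CompactSpace Y' := QuasiCompact.compactSpace_of_compactSpace c
  haveI : QuasiSeparatedSpace Y' := quasiSeparatedSpace_of_quasiSeparated c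
  obtain ⟨M, hM, hMU, hML⟩ := BlowUpComp.exists_extend j (c ⁻¹ᵁ U) (c.isCompact_preimage hU) L hL.1
    fun v hv h => Set.disjoint_left.1 hL.2 h hv
  let d := BlowUpExists.blProj M
  have hd : BlowUp.IsBlowUp d M := BlowUpAmple.isBlowUp_blProj M
  obtain ⟨K, hK, hKs, hdc⟩ := BlowUpComp.exists_comp hc hJ.1 hM hd
  have hp : BlowUp.IsBlowUp (pullback.fst j d) L := hML ▸ Lib.Ideal.BlowUp.isBlowUp_flat_baseChange j hd
  obtain ⟨k₁, hk₁, hk₁e⟩ := BlowUpComp.exists_iso hg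
  obtain ⟨k₂, hk₂, hk₂e⟩ := BlowUpComp.exists_iso hp
  refine ⟨K, _, d ≫ c, k₁ ≫ inv k₂ ≫ pullback.snd j d, hdc, ⟨hK, ?_⟩, inferInstance, ?_⟩
  · rw [Set.disjoint_left, hKs]
    rintro y (hy | ⟨y', hy', rfl⟩) hyU
    · exact Set.disjoint_left.1 hJ.2 hy hyU
    · exact hMU y' hyU hy'
  · have h1 : k₁ ≫ inv k₂ ≫ pullback.fst j d = g := by
      rw [← hk₂e, IsIso.inv_hom_id_assoc, hk₁e]
    simp only [Category.assoc, ← pullback.condition_assoc]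
    rw [← h1]
    simp only [Category.assoc]

/-- The statement for two morphisms. -/
theorem exists_two [CompactSpace X] [QuasiSeparatedSpace X]
    {Y₁ Y₂ : Scheme.{u}} [CompactSpace Y₁] [QuasiSeparatedSpace Y₁] [CompactSpace Y₂]
    [QuasiSeparatedSpace Y₂] (π₁ : X ⟶ Y₁) (π₂ : X ⟶ Y₂)
    [IsSeparated π₁] [QuasiCompact π₁] [LocallyOfFiniteType π₁]
    [IsSeparated π₂] [QuasiCompact π₂] [LocallyOfFiniteType π₂]
    (U₁ : Y₁.Opens) (U₂ : Y₂.Opens) (hU₁ : IsCompact (U₁ : Set Y₁)) (hU₂ : IsCompact (U₂ : Set Y₂))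
    [IsIso (π₁ ∣_ U₁)] [IsIso (π₂ ∣_ U₂)] (hUU : π₁ ⁻¹ᵁ U₁ = π₂ ⁻¹ᵁ U₂) :
    ∃ (𝓘 : X.IdealSheafData) (𝓙₁ : Y₁.IdealSheafData) (𝓙₂ : Y₂.IdealSheafData)
      (Xt Yt₁ Yt₂ : Scheme.{u}) (b : Xt ⟶ X) (c₁ : Yt₁ ⟶ Y₁) (c₂ : Yt₂ ⟶ Y₂)
      (j₁ : Xt ⟶ Yt₁) (j₂ : Xt ⟶ Yt₂),
      BlowUp.IsBlowUp b 𝓘 ∧ BlowUp.IsAdmissibleFor (π₁ ⁻¹ᵁ U₁) 𝓘 ∧
      BlowUp.IsBlowUp c₁ 𝓙₁ ∧ BlowUp.IsAdmissibleFor U₁ 𝓙₁ ∧
      BlowUp.IsBlowUp c₂ 𝓙₂ ∧ BlowUp.IsAdmissibleFor U₂ 𝓙₂ ∧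
      IsOpenImmersion j₁ ∧ IsOpenImmersion j₂ ∧ j₁ ≫ c₁ = b ≫ π₁ ∧ j₂ ≫ c₂ = b ≫ π₂ := by
  obtain ⟨J₁, X₁, Y₁', r₁, c₁, j₁, hr₁, hc₁, hJ₁, -, hj₁, hjc₁, -⟩ :=
    exists_openImmersion π₁ U₁ hU₁
  obtain ⟨J₂, X₂, Y₂', r₂, c₂, j₂, hr₂, hc₂, hJ₂, -, hj₂, hjc₂, -⟩ :=
    exists_openImmersion π₂ U₂ hU₂
  obtain ⟨K, Xt, b, hb, hK, hg⟩ := BlowUpComp.exists_dominating_family (π₁ ⁻¹ᵁ U₁) (n := 2)
    (Fin.cons X₁ (fun _ => X₂)) (Fin.cases r₁ (fun _ => r₂))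
    (Fin.cases (J₁.comap π₁) (fun _ => J₂.comap π₂))
    (fun i => by cases i using Fin.cases <;> assumption)
    (fun i => by
      cases i using Fin.cases with
      | zero => exact isAdmissible_comap π₁ U₁ hJ₁
      | succ k => show BlowUp.IsAdmissibleFor _ (J₂.comap π₂); rw [hUU]; exact isAdmissible_comap π₂ U₂ hJ₂)
  obtain ⟨g₁, L₁, hg₁, hg₁b, hL₁⟩ := hg 0
  obtain ⟨g₂, L₂, hg₂, hg₂b, hL₂⟩ := hg 1
  haveI : IsProper c₁ := BlowUpExists.isProper_of_isBlowUp hc₁ hJ₁.1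
  haveI : IsProper c₂ := BlowUpExists.isProper_of_isBlowUp hc₂ hJ₂.1
  haveI : IsProper r₁ := BlowUpExists.isProper_of_isBlowUp hr₁ (isFG_comap' π₁ hJ₁.1)
  haveI : IsProper r₂ := BlowUpExists.isProper_of_isBlowUp hr₂ (isFG_comap' π₂ hJ₂.1)
  haveI := hj₁; haveI := hj₂
  haveI : QuasiCompact j₁ := by
    have : QuasiCompact (j₁ ≫ c₁) := by rw [hjc₁]; infer_instance
    exact QuasiCompact.of_comp j₁ c₁
  haveI : QuasiCompact j₂ := by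
    have : QuasiCompact (j₂ ≫ c₂) := by rw [hjc₂]; infer_instance
    exact QuasiCompact.of_comp j₂ c₂
  obtain ⟨K₁, Yt₁, d₁, i₁, hd₁, hK₁, hi₁, hid₁⟩ := exists_lift_openImmersion U₁ hU₁ hc₁ hJ₁ j₁ g₁ hg₁b
    (by rw [hjc₁]; exact hL₁)
  obtain ⟨K₂, Yt₂, d₂, i₂, hd₂, hK₂, hi₂, hid₂⟩ := exists_lift_openImmersion U₂ hU₂ hc₂ hJ₂ j₂ g₂ hg₂b
    (by
      rw [hjc₂]
      have h : BlowUp.IsAdmissibleFor (r₂ ⁻¹ᵁ (π₁ ⁻¹ᵁ U₁)) L₂ := hL₂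
      rw [hUU] at h
      exact h)
  exact ⟨K, K₁, K₂, Xt, Yt₁, Yt₂, b, d₁, d₂, i₁, i₂, hb, hK, hd₁, hK₁, hd₂, hK₂, hi₁, hi₂,
    hid₁.trans (by rw [hjc₁]; exact (Category.assoc _ _ _).symm.trans (congrArg (· ≫ π₁) hg₁)),
    hid₂.trans (by rw [hjc₂]; exact (Category.assoc _ _ _).symm.trans (congrArg (· ≫ π₂) hg₂))⟩

/-- The image of an open lying in the isomorphism locus. -/
theorem exists_image_open {π : X ⟶ Y} {V : Y.Opens} [IsIso (π ∣_ V)] (O : X.Opens)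
    (hO : O ≤ π ⁻¹ᵁ V) (hOc : IsCompact (O : Set X)) :
    ∃ V' : Y.Opens, (V' : Set Y) = (fun x => π x) '' (O : Set X) ∧ IsCompact (V' : Set Y) ∧
      π ⁻¹ᵁ V' = O ∧ IsIso (π ∣_ V') := by
  have hopen : IsOpen ((fun x => π x) '' (O : Set X)) := by
    have : (fun x => π x) '' (O : Set X) =
        V.ι '' ((π ∣_ V).homeomorph '' ((π ⁻¹ᵁ V).ι ⁻¹' (O : Set X))) := by
      ext s
      constructor
      · rintro ⟨x, hx, rfl⟩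
        exact ⟨_, ⟨⟨x, hO hx⟩, hx, rfl⟩, by simp⟩
      · rintro ⟨_, ⟨x, hx, rfl⟩, rfl⟩
        exact ⟨x.1, hx, by simp⟩
    rw [this]
    exact V.ι.isOpenEmbedding.isOpenMap _
      ((π ∣_ V).homeomorph.isOpenMap _ (O.2.preimage (π ⁻¹ᵁ V).ι.continuous))
  let V' : Y.Opens := ⟨_, hopen⟩
  have hle : V' ≤ V := by rintro _ ⟨x, hx, rfl⟩; exact hO hx
  refine ⟨V', rfl, hOc.image π.continuous, ?_, ?_⟩
  · refine le_antisymm ?_ fun x hx => ⟨x, hx, rfl⟩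
    rintro x ⟨x', hx', he⟩
    exact injOn_of_isIso (φ := π) (U := V) (x := x') (x' := x) (hO hx') he.symm ▸ hx'
  · have h1 : IsIso (π ∣_ V ∣_ (V.ι ⁻¹ᵁ V')) := inferInstance
    have h2 := ((MorphismProperty.isomorphisms Scheme.{u}).arrow_mk_iso_iff
      (morphismRestrictRestrict π V (V.ι ⁻¹ᵁ V'))).1 h1
    have h3 : V.ι ''ᵁ V.ι ⁻¹ᵁ V' = V' := by
      rw [Scheme.Hom.image_preimage_eq_opensRange_inf, Scheme.Opens.opensRange_ι, inf_eq_right.2 hle]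
    exact ((MorphismProperty.isomorphisms Scheme.{u}).arrow_mk_iso_iff
      (morphismRestrictEq π h3)).1 h2

end Groth.Agent.H22.StrictTransform
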