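import Groth.Agent.H22.StrictTransform.Exists

/-!
# The strict transform of a scheme is its blow-up
-/

set_option autoImplicit false
set_option maxHeartbeats 1000000

noncomputable section

universe u

open CategoryTheory CategoryTheory.Limits AlgebraicGeometry TopologicalSpace

namespace Groth.Agent.H22.StrictTransform

open Groth.Agent.Lib

variable {X S S' X' : Scheme.{u}} {φ : X ⟶ S} {b : S' ⟶ S} {p₁ : X' ⟶ X} {p₂ : X' ⟶ S'}
  {𝓘 : S.IdealSheafData} {𝒥 : X'.IdealSheafData}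

theorem isEffCartier_strict' (H : IsPullback p₁ p₂ φ b) (hb : BlowUp.IsBlowUp b 𝓘)
    (hE : Lim.IdealExt.IsFG ((𝓘.comap φ).comap p₁))
    (h𝒥 : IsTorsionIdeal ((𝓘.comap φ).comap p₁) 𝒥) :
    BlowUp.IsEffCartierIdeal ((𝓘.comap φ).comap (𝒥.subschemeι ≫ p₁)) := by
  have hEE : (𝓘.comap φ).comap p₁ = (𝓘.comap b).comap p₂ := by
    rw [← Scheme.IdealSheafData.comap_comp, H.w, Scheme.IdealSheafData.comap_comp]
  intro z
  obtain ⟨V, hzV, -, f, -, hf⟩ := Lib.Ideal.EffCartier.exists_gen hb.1 ((𝒥.subschemeι ≫ p₂) z)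
    (show _ ∈ (⊤ : S'.Opens) from trivial)
  obtain ⟨Y, hY, hzY, hYle⟩ := exists_isAffineOpen_mem_and_subset
    (show z ∈ (𝒥.subschemeι ≫ p₂) ⁻¹ᵁ V.1 from hzV)
  refine ⟨⟨Y, hY⟩, hzY, (𝒥.subschemeι ≫ p₂).appLE V.1 Y hYle f, ?_, ?_⟩
  · refine Lib.Ideal.EffCartier.mem_nonZeroDivisors_of_eq_zero fun c hc => ?_
    refine h𝒥.eq_zero hE c fun w hw hwE => ?_
    have hu : w ∈ 𝒥.subscheme.basicOpen ((𝒥.subschemeι ≫ p₂).appLE V.1 Y hYle f) := by
      rw [Scheme.basicOpen_appLE]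
      refine ⟨hw, ?_⟩
      by_contra hn
      refine hwE ?_
      rw [hEE, Scheme.IdealSheafData.support_comap]
      show (𝒥.subschemeι ≫ p₂) w ∈ (𝓘.comap b).support
      rw [Lib.Ideal.Prime.mem_support_iff_le_prime _ V (hYle hw), hf,
        Ideal.span_singleton_le_iff_mem]
      by_contra hn'
      exact hn ((Lib.Ideal.EffCartier.mem_basicOpen_iff_notMem_prime V.2 (hYle hw) f).2 hn')
    have hcz := congrArg (𝒥.subscheme.presheaf.germ Y w hw) hc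
    rw [map_mul, map_zero] at hcz
    exact ((𝒥.subscheme.mem_basicOpen _ w hw).1 hu).mul_right_eq_zero.1 hcz
  · rw [Scheme.IdealSheafData.comap_comp, hEE, ← Scheme.IdealSheafData.comap_comp,
      Lib.Ideal.Comap.ideal_comap _ _ V ⟨Y, hY⟩ hYle, hf, Ideal.map_span, Set.image_singleton]

theorem isEffCartier_strict (H : IsPullback p₁ p₂ φ b) (hb : BlowUp.IsBlowUp b 𝓘)
    (hI : Lim.IdealExt.IsFG 𝓘) (h𝒥 : IsTorsionIdeal ((𝓘.comap φ).comap p₁) 𝒥) :
    BlowUp.IsEffCartierIdeal ((𝓘.comap φ).comap (𝒥.subschemeι ≫ p₁)) :=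
  isEffCartier_strict' H hb (isFG_comap' _ (isFG_comap' _ hI)) h𝒥

/-- The strict transform is the blow-up of the inverse image centre. -/
theorem isBlowUp_strict' (H : IsPullback p₁ p₂ φ b) (hb : BlowUp.IsBlowUp b 𝓘)
    (hE : Lim.IdealExt.IsFG ((𝓘.comap φ).comap p₁))
    (h𝒥 : IsTorsionIdeal ((𝓘.comap φ).comap p₁) 𝒥) :
    BlowUp.IsBlowUp (𝒥.subschemeι ≫ p₁) (𝓘.comap φ) := by
  refine ⟨isEffCartier_strict' H hb hE h𝒥, fun T g hg => ?_⟩
  obtain ⟨h, hh, hhu⟩ := hb.2 T (g ≫ φ) (by rw [Scheme.IdealSheafData.comap_comp]; exact hg)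
  let l := H.lift g h hh.symm
  have hl1 : l ≫ p₁ = g := H.lift_fst _ _ _
  have hker : 𝒥.subschemeι.ker ≤ l.ker := by
    rw [Scheme.IdealSheafData.ker_subschemeι]
    refine Scheme.IdealSheafData.le_ofIdeals_iff.2 fun W a ha => ?_
    rw [RingHom.mem_ker]
    obtain ⟨n, hn⟩ := (h𝒥 W a).1 ha
    have hET : BlowUp.IsEffCartierIdeal (((𝓘.comap φ).comap p₁).comap l) := by
      rw [← Scheme.IdealSheafData.comap_comp, hl1]; exact hg
    refine Lib.Ideal.EffCartier.eq_zero_of_germ_eq_zero_off hET _ fun t ht hts => ?_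
    obtain ⟨e, he, hte⟩ : ∃ e ∈ ((𝓘.comap φ).comap p₁).ideal W, l t ∈ X'.basicOpen e := by
      have : l t ∉ ((𝓘.comap φ).comap p₁).support := fun hs => hts (by
        rw [Scheme.IdealSheafData.support_comap]; exact hs)
      exact (mem_basicOpen_of_notMem_support W (Ideal.span_eq _) ht).1 this
    have h1 := congrArg (X'.presheaf.germ W.1 (l t) ht) (hn (e ^ n) (by
      rw [Scheme.IdealSheafData.ideal_pow, Pi.pow_apply]
      exact Ideal.pow_mem_pow he n))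
    rw [map_mul, map_pow, map_zero] at h1
    have h2 : X'.presheaf.germ W.1 (l t) ht a = 0 :=
      (((X'.mem_basicOpen e (l t) ht).1 hte).pow n).mul_right_eq_zero.1 h1
    rw [← Scheme.Hom.germ_stalkMap_apply l W.1 t ht, h2, map_zero]
  refine ⟨IsClosedImmersion.lift 𝒥.subschemeι l hker, ?_, fun k hk => ?_⟩
  · show _ ≫ 𝒥.subschemeι ≫ p₁ = g
    rw [IsClosedImmersion.lift_fac_assoc, hl1]
  · rw [← cancel_mono 𝒥.subschemeι, IsClosedImmersion.lift_fac]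
    have hk' : (k ≫ 𝒥.subschemeι) ≫ p₁ = g := by rw [Category.assoc]; exact hk
    refine H.hom_ext (hk'.trans hl1.symm) ?_
    rw [H.lift_snd]
    refine hhu _ ?_
    show ((k ≫ 𝒥.subschemeι) ≫ p₂) ≫ b = g ≫ φ
    rw [Category.assoc, ← H.w, ← Category.assoc, hk']

theorem isBlowUp_strict (H : IsPullback p₁ p₂ φ b) (hb : BlowUp.IsBlowUp b 𝓘)
    (hI : Lim.IdealExt.IsFG 𝓘) (h𝒥 : IsTorsionIdeal ((𝓘.comap φ).comap p₁) 𝒥) :
    BlowUp.IsBlowUp (𝒥.subschemeι ≫ p₁) (𝓘.comap φ) :=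
  isBlowUp_strict' H hb (isFG_comap' _ (isFG_comap' _ hI)) h𝒥

end Groth.Agent.H22.StrictTransform
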