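import Groth.Agent.H22.BlowUpAmple
import Groth.Agent.Lib.Flat55.GenericStrataScheme

/-!
# Blowing up an intersection separates the strict transforms
-/

set_option autoImplicit false
set_option maxHeartbeats 1000000

noncomputable section

universe u v

open CategoryTheory CategoryTheory.Limits AlgebraicGeometry TopologicalSpace

namespace Groth.Agent.H22.StrictTransform

open Groth.Agent.Lib

variable {X X' : Scheme.{u}}

theorem iInter_closure_eq_empty {ι : Type v} (J : ι → X.IdealSheafData) (b : X' ⟶ X)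
    (hc : BlowUp.IsEffCartierIdeal ((⨆ i, J i).comap b)) :
    (⋂ i, closure ((fun z => b z) ⁻¹' (((J i).support : Set X) \ ((⨆ i, J i).support : Set X)))) =
      (∅ : Set X') := by
  by_contra hne
  obtain ⟨y, hy⟩ := Set.nonempty_iff_ne_empty.2 hne
  obtain ⟨W, hyW, f, hf, hEW⟩ := hc y
  set p := (W.2.primeIdealOf ⟨y, hyW⟩).asIdeal
  have key : ∀ i, ((J i).comap b).ideal W ≤ p * Ideal.span {f} := by
    intro i a ha
    have haE : a ∈ ((⨆ i, J i).comap b).ideal W :=
      Scheme.IdealSheafData.comap_mono (f := b) (le_iSup J i) W ha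
    obtain ⟨c, rfl⟩ := Ideal.mem_span_singleton'.1 (hEW.le haE)
    refine Ideal.mul_mem_mul ?_ (Ideal.mem_span_singleton_self f)
    by_contra hc'
    obtain ⟨y', hy'c, hy'Y⟩ := mem_closure_iff.1 (Set.mem_iInter.1 hy i) _ (X'.basicOpen c).2
      ((Lib.Ideal.EffCartier.mem_basicOpen_iff_notMem_prime W.2 hyW c).2 hc')
    have hy'W : y' ∈ W.1 := X'.basicOpen_le c hy'c
    have hy'J : y' ∈ ((J i).comap b).support := by
      simp only [Scheme.IdealSheafData.support_comap]
      exact hy'Y.1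
    have hy'E : y' ∉ ((⨆ i, J i).comap b).support := by
      simp only [Scheme.IdealSheafData.support_comap]
      exact hy'Y.2
    rw [Lib.Ideal.Prime.mem_support_iff_le_prime _ W hy'W] at hy'J hy'E
    rw [hEW, Ideal.span_singleton_le_iff_mem] at hy'E
    exact ((W.2.primeIdealOf ⟨y', hy'W⟩).2.mem_or_mem (hy'J ha)).elim
      ((Lib.Ideal.EffCartier.mem_basicOpen_iff_notMem_prime W.2 hy'W c).1 hy'c) hy'E
  have hle : ((⨆ i, J i).comap b).ideal W ≤ p * Ideal.span {f} := by
    rw [show (⨆ i, J i).comap b = ⨆ i, (J i).comap b from (Scheme.IdealSheafData.map_gc b).l_iSup,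
      Scheme.IdealSheafData.ideal_iSup, iSup_apply]
    exact iSup_le key
  obtain ⟨m, hm, hmf⟩ := Ideal.mem_mul_span_singleton.1 (hle (hEW.ge (Ideal.mem_span_singleton_self f)))
  have h1 : (m - 1) * f = 0 := by rw [sub_mul, one_mul, hmf, sub_self]
  have h2 : m = 1 := sub_eq_zero.1 ((mem_nonZeroDivisors_iff.1 hf).2 _ h1)
  exact (W.2.primeIdealOf ⟨y, hyW⟩).2.ne_top ((Ideal.eq_top_iff_one _).2 (h2 ▸ hm))

theorem disjoint_closure_two (J₁ J₂ : X.IdealSheafData) (b : X' ⟶ X)
    (hc : BlowUp.IsEffCartierIdeal ((J₁ ⊔ J₂).comap b)) :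
    closure ((fun z => b z) ⁻¹' ((J₁.support : Set X) \ ((J₁ ⊔ J₂).support : Set X))) ∩
      closure ((fun z => b z) ⁻¹' ((J₂.support : Set X) \ ((J₁ ⊔ J₂).support : Set X))) =
        (∅ : Set X') := by
  have e : J₁ ⊔ J₂ = ⨆ i : Bool, cond i J₁ J₂ := (sup_eq_iSup J₁ J₂)
  have h := iInter_closure_eq_empty (fun i : Bool => cond i J₁ J₂) b (e ▸ hc)
  rw [← h, e]
  ext z
  simp [Set.mem_iInter, Bool.forall_bool, and_comm]

end Groth.Agent.H22.StrictTransform
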