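import Groth.Agent.H22.StrictTransform.Section
import Groth.Agent.H22.StrictTransform.Common
import Groth.Agent.H22.BlowUpAmple
import Groth.Agent.Lib.Ideal.BlowUp
import Groth.Agent.Lib.Ideal.EffCartier
import Groth.Agent.Lib.SchDense.Basic

/-!
# A quasi-domination of a blow-up over a quasi-dominating open is a blow-up
-/

set_option autoImplicit false
set_option maxHeartbeats 1000000

noncomputable section

universe u

open CategoryTheory CategoryTheory.Limits AlgebraicGeometry TopologicalSpace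

namespace Groth.Agent.H22.StrictTransform

open Groth.Agent.Lib

/-- A schematically dense lift into a blow-up. -/
theorem std_lift_blowUp {U V V' : Scheme.{u}} (jV : U ⟶ V) [IsSchemeTheoreticallyDominant jV] [QuasiCompact jV]
    {q : V' ⟶ V} {J : V.IdealSheafData} (hq : BlowUp.IsBlowUp q J) (hoff : ∀ x, jV x ∉ J.support)
    (u : U ⟶ V') (hu : u ≫ q = jV) : IsSchemeTheoreticallyDominant u := by
  let O : V.Opens := J.support.compl
  haveI := Lib.Ideal.BlowUp.isIso_off_center hq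
  have htop : jV ⁻¹ᵁ O = ⊤ := top_le_iff.1 fun x _ => hoff x
  haveI : IsSchemeTheoreticallyDominant (jV ∣_ O) :=
    IsSchemeTheoreticallyDominant.of_isPullback (isPullback_morphismRestrict jV O).flip
  let jo : U ⟶ O := (U.topIso.inv ≫ (U.isoOfEq htop).inv) ≫ (jV ∣_ O)
  haveI : IsSchemeTheoreticallyDominant jo :=
    inferInstanceAs (IsSchemeTheoreticallyDominant ((U.topIso.inv ≫ (U.isoOfEq htop).inv) ≫ (jV ∣_ O)))
  have hjo : jo ≫ O.ι = jV := by
    simp only [jo, Category.assoc, morphismRestrict_ι, Scheme.isoOfEq_inv_ι_assoc]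
    rw [← Scheme.topIso_hom, Iso.inv_hom_id_assoc]
  haveI : IsSchemeTheoreticallyDominant (q ⁻¹ᵁ O).ι := by
    refine ⟨le_bot_iff.1 fun W c hc' => ?_⟩
    have hc : (q ⁻¹ᵁ O).ι.app W.1 c = 0 :=
      RingHom.mem_ker.1 (Scheme.IdealSheafData.ideal_ofIdeals_le _ W hc')
    rw [Scheme.IdealSheafData.ideal_bot]
    refine Lib.Ideal.EffCartier.eq_zero_of_germ_eq_zero_off hq.1 c fun z hz hzs => ?_
    have hzO : z ∈ q ⁻¹ᵁ O := fun h => hzs (by
      rw [Scheme.IdealSheafData.support_comap]; exact h)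
    apply (ConcreteCategory.bijective_of_isIso ((q ⁻¹ᵁ O).ι.stalkMap ⟨z, hzO⟩)).injective
    refine ((Scheme.Hom.germ_stalkMap_apply (q ⁻¹ᵁ O).ι W.1 ⟨z, hzO⟩ hz c).trans
      ((congrArg _ hc).trans (map_zero _))).trans ?_
    exact (map_zero _).symm
  have hr : Set.range u ⊆ Set.range (q ⁻¹ᵁ O).ι := by
    rw [Scheme.Opens.range_ι]
    rintro _ ⟨x, rfl⟩
    show q (u x) ∈ O
    rw [← Scheme.Hom.comp_apply, hu]
    exact hoff x
  let u'' := IsOpenImmersion.lift (q ⁻¹ᵁ O).ι u hr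
  have hu'' : u'' ≫ (q ⁻¹ᵁ O).ι = u := IsOpenImmersion.lift_fac _ _ _
  have he : u'' = jo ≫ inv (q ∣_ O) := by
    rw [IsIso.eq_comp_inv, ← cancel_mono O.ι, Category.assoc, morphismRestrict_ι, reassoc_of% hu'', hu, hjo]
  rw [← hu'', he]
  infer_instance

theorem isBlowUp_of_quasiDomination {S U X Y Xt : Scheme.{u}} [CompactSpace S] [QuasiSeparatedSpace S]
    (gX : X ⟶ S) (gY : Y ⟶ S) [IsSeparated gX] [QuasiCompact gX] [IsSeparated gY] [QuasiCompact gY]
    (jX : U ⟶ X) [IsOpenImmersion jX] [CompactSpace U]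
    (V : Y.Opens) (jV : U ⟶ (V : Scheme.{u})) [IsSchemeTheoreticallyDominant jV]
    (φ : (V : Scheme.{u}) ⟶ X) (hφU : jV ≫ φ = jX) (hφ : V.ι ≫ gY = φ ≫ gX)
    (hφcl : IsClosed (Set.range (fun x => pullback.lift V.ι φ hφ x)))
    (𝓘 : X.IdealSheafData) (h𝓘 : BlowUp.IsAdmissibleFor jX.opensRange 𝓘)
    (b : Xt ⟶ X) (hb : BlowUp.IsBlowUp b 𝓘)
    (W : Xt.Opens) (u : U ⟶ (W : Scheme.{u})) (hu : u ≫ W.ι ≫ b = jX)
    [IsSchemeTheoreticallyDominant (u ≫ W.ι)]
    (ψ : (W : Scheme.{u}) ⟶ (V : Scheme.{u})) (hψU : u ≫ ψ = jV)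
    (hψ : W.ι ≫ b ≫ gX = ψ ≫ V.ι ≫ gY)
    (hψcl : IsClosed (Set.range (fun x => pullback.lift W.ι ψ hψ x))) :
    BlowUp.IsBlowUp ψ (𝓘.comap φ) ∧
      IsClosed (Set.range (fun x => pullback.lift (f := b ≫ gX) (g := gY) W.ι (ψ ≫ V.ι)
        (hψ.trans (Category.assoc ψ V.ι gY).symm) x)) := by
  haveI : IsProper b := BlowUpExists.isProper_of_isBlowUp hb h𝓘.1
  haveI : QuasiSeparatedSpace Y := quasiSeparatedSpace_of_quasiSeparated gY
  haveI : QuasiSeparatedSpace X := quasiSeparatedSpace_of_quasiSeparated gX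
  haveI : QuasiSeparatedSpace Xt := quasiSeparatedSpace_of_quasiSeparated b
  haveI : QuasiSeparatedSpace (V : Scheme.{u}) := quasiSeparatedSpace_of_quasiSeparated V.ι
  haveI : QuasiSeparatedSpace (W : Scheme.{u}) := quasiSeparatedSpace_of_quasiSeparated W.ι
  haveI : QuasiCompact jV := quasiCompact_of_compactSpace jV
  haveI : QuasiCompact u := quasiCompact_of_compactSpace u
  haveI : QuasiCompact (u ≫ W.ι) := quasiCompact_of_compactSpace _
  haveI : IsSchemeTheoreticallyDominant u := by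
    haveI : IsSchemeTheoreticallyDominant ((u ≫ W.ι) ∣_ W) :=
      IsSchemeTheoreticallyDominant.of_isPullback (isPullback_morphismRestrict (u ≫ W.ι) W).flip
    have htop : (u ≫ W.ι) ⁻¹ᵁ W = ⊤ := top_le_iff.1 fun x _ => (u x).2
    have e : u = (U.topIso.inv ≫ (U.isoOfEq htop).inv) ≫ ((u ≫ W.ι) ∣_ W) := by
      rw [← cancel_mono W.ι]
      simp only [Category.assoc, morphismRestrict_ι, Scheme.isoOfEq_inv_ι_assoc]
      rw [← Scheme.topIso_hom, Iso.inv_hom_id_assoc]
    rw [e]; infer_instance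
  have hWb : W.ι ≫ b = ψ ≫ φ := by
    refine SchDense.Basic.ext_of_std gX ?_ u ?_
    · rw [Category.assoc, Category.assoc, hψ, hφ]
    · rw [reassoc_of% hψU, hφU, hu]
  -- the blow-up of `V`
  let V' := BlowUpExists.bl (𝓘.comap φ)
  let q : V' ⟶ (V : Scheme.{u}) := BlowUpExists.blProj (𝓘.comap φ)
  have hq : BlowUp.IsBlowUp q (𝓘.comap φ) := BlowUpAmple.isBlowUp_blProj _
  have hfg : Lim.IdealExt.IsFG (𝓘.comap φ) := isFG_comap' φ h𝓘.1
  haveI : IsProper q := BlowUpExists.isProper_of_isBlowUp hq hfg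
  haveI : QuasiSeparatedSpace V' := quasiSeparatedSpace_of_quasiSeparated q
  have hoff : ∀ x, jV x ∉ (𝓘.comap φ).support := fun x hx => by
    rw [Scheme.IdealSheafData.support_comap] at hx
    refine Set.disjoint_left.1 h𝓘.2 hx ⟨x, ?_⟩
    rw [← hφU]; rfl
  have hcW : BlowUp.IsEffCartierIdeal ((𝓘.comap φ).comap ψ) := by
    rw [← Scheme.IdealSheafData.comap_comp, ← hWb, Scheme.IdealSheafData.comap_comp]
    exact Lib.Ideal.EffCartier.isEffCartier_comap_of_flat W.ι hb.1
  obtain ⟨h, hh, -⟩ := hb.2 V' (q ≫ φ) (by rw [Scheme.IdealSheafData.comap_comp]; exact hq.1)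
  obtain ⟨k, hk, -⟩ := hq.2 _ ψ hcW
  obtain ⟨u', hu', -⟩ := hq.2 U jV (Lib.Ideal.EffCartier.isEffCartier_comap_of_disjoint _ hoff)
  haveI := std_lift_blowUp jV hq hoff u' hu'
  haveI : QuasiCompact u' := quasiCompact_of_compactSpace u'
  -- the graph of `ψ`
  let Γψ : (W : Scheme.{u}) ⟶ pullback (b ≫ gX) (V.ι ≫ gY) := pullback.lift W.ι ψ hψ
  haveI : IsImmersion (Γψ ≫ pullback.fst _ _) := by rw [pullback.lift_fst]; infer_instance
  haveI : IsImmersion Γψ := IsImmersion.of_comp Γψ (pullback.fst _ _)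
  haveI : IsClosedImmersion Γψ := IsClosedImmersion.of_isPreimmersion Γψ hψcl
  have hqg : h ≫ b ≫ gX = q ≫ V.ι ≫ gY := by rw [reassoc_of% hh, hφ]
  let l : V' ⟶ pullback (b ≫ gX) (V.ι ≫ gY) := pullback.lift h q hqg
  have hul : u' ≫ l = u ≫ Γψ := by
    apply pullback.hom_ext <;> simp only [l, Γψ, Category.assoc, pullback.lift_fst, pullback.lift_snd]
    · refine (hb.2 U jX ?_).unique ?_ ?_
      · refine Lib.Ideal.EffCartier.isEffCartier_comap_of_disjoint _ fun x hx => ?_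
        exact Set.disjoint_left.1 h𝓘.2 hx ⟨x, rfl⟩
      · rw [Category.assoc, hh, reassoc_of% hu', hφU]
      · rw [Category.assoc, hu]
    · rw [hu', hψU]
  have hker : Γψ.ker ≤ l.ker := by
    refine (u.le_ker_comp Γψ).trans ?_
    rw [← hul, Scheme.Hom.ker_comp, u'.ker_eq_bot, Scheme.IdealSheafData.map_bot]
  let n : V' ⟶ (W : Scheme.{u}) := IsClosedImmersion.lift Γψ l hker
  have hn : n ≫ Γψ = l := IsClosedImmersion.lift_fac _ _ _
  have hn1 : n ≫ W.ι = h := by
    have := congrArg (· ≫ pullback.fst _ _) hn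
    simpa only [Category.assoc, Γψ, l, pullback.lift_fst] using this
  have hn2 : n ≫ ψ = q := by
    have := congrArg (· ≫ pullback.snd _ _) hn
    simpa only [Category.assoc, Γψ, l, pullback.lift_snd] using this
  have hkn : k ≫ n = 𝟙 _ := by
    rw [← cancel_mono W.ι, Category.assoc, hn1, Category.id_comp]
    refine (hb.2 _ (W.ι ≫ b) ?_).unique ?_ rfl
    · rw [hWb, Scheme.IdealSheafData.comap_comp]; exact hcW
    · rw [Category.assoc, hh, reassoc_of% hk, hWb]
  have hnk : n ≫ k = 𝟙 _ := (hq.2 _ q hq.1).unique (by rw [Category.assoc, hk, hn2]) (Category.id_comp q)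
  haveI : IsIso k := ⟨n, hkn, hnk⟩
  haveI : IsProper ψ := by rw [← hk]; infer_instance
  refine ⟨⟨hcW, fun T g hg => ?_⟩, ?_⟩
  · obtain ⟨g', hg', huniq⟩ := hq.2 T g hg
    refine ⟨g' ≫ n, by show (g' ≫ n) ≫ ψ = g; rw [Category.assoc, hn2, hg'], fun t ht => ?_⟩
    have : t ≫ k = g' := huniq _ (by show (t ≫ k) ≫ q = g; rw [Category.assoc, hk, ht])
    rw [← this, Category.assoc, hkn, Category.comp_id]
  · let Γφ : (V : Scheme.{u}) ⟶ pullback gY gX := pullback.lift V.ι φ hφ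
    haveI : IsImmersion (Γφ ≫ pullback.fst _ _) := by rw [pullback.lift_fst]; infer_instance
    haveI : IsImmersion Γφ := IsImmersion.of_comp Γφ (pullback.fst _ _)
    haveI : IsClosedImmersion Γφ := IsClosedImmersion.of_isPreimmersion Γφ hφcl
    let M : pullback (b ≫ gX) gY ⟶ pullback gY gX :=
      pullback.lift (pullback.snd _ _) (pullback.fst _ _ ≫ b) (by rw [Category.assoc, pullback.condition])
    let L : (W : Scheme.{u}) ⟶ pullback (b ≫ gX) gY :=
      pullback.lift W.ι (ψ ≫ V.ι) (hψ.trans (Category.assoc ψ V.ι gY).symm)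
    have hLM : L ≫ M = ψ ≫ Γφ := by
      apply pullback.hom_ext <;> simp only [L, M, Γφ, Category.assoc, pullback.lift_fst, pullback.lift_snd,
        pullback.lift_fst_assoc, pullback.lift_snd_assoc]
      exact hWb
    haveI : IsSeparated M := by
      haveI : IsSeparated (M ≫ pullback.fst gY gX) := by rw [pullback.lift_fst]; infer_instance
      exact IsSeparated.of_comp M (pullback.fst gY gX)
    haveI : IsProper (L ≫ M) := by rw [hLM]; infer_instance
    haveI : IsProper L := IsProper.of_comp L M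
    exact L.isClosedMap.isClosed_range

end Groth.Agent.H22.StrictTransform
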