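import Groth.Agent.H22.StrictTransform.Section
import Groth.Agent.Lib.BlowUpExists.Proper

/-!
# A compactification dominates after an admissible blow-up
-/

set_option autoImplicit false
set_option maxHeartbeats 1000000

noncomputable section

universe u

open CategoryTheory CategoryTheory.Limits AlgebraicGeometry TopologicalSpace

namespace Groth.Agent.H22.StrictTransform

open Groth.Agent.Lib

theorem exists_dominate {U S Y : Scheme.{u}} [CompactSpace S] [QuasiSeparatedSpace S]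
    (g : U ⟶ S) [IsSeparated g] [LocallyOfFiniteType g] [QuasiCompact g]
    (V : U.Opens) (hV : IsCompact (V : Set U)) (j : (V : Scheme.{u}) ⟶ Y) [IsOpenImmersion j]
    [QuasiCompact j] (πY : Y ⟶ S) [IsProper πY] (hj : j ≫ πY = V.ι ≫ g) :
    ∃ (𝓘 : Y.IdealSheafData) (Y' : Scheme.{u}) (b : Y' ⟶ Y), BlowUp.IsBlowUp b 𝓘 ∧
      BlowUp.IsAdmissibleFor j.opensRange 𝓘 ∧ (𝓘.support : Set Y) = (j.opensRange : Set Y)ᶜ ∧
      ∃ (V' : Y'.Opens) (hle : b ⁻¹ᵁ j.opensRange ≤ V') (h : (V' : Scheme.{u}) ⟶ U),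
        IsProper h ∧ h ≫ g = V'.ι ≫ b ≫ πY ∧
        ∃ k : ((b ⁻¹ᵁ j.opensRange : Y'.Opens) : Scheme.{u}) ⟶ V,
          k ≫ j = (b ∣_ j.opensRange) ≫ j.opensRange.ι ∧ Y'.homOfLE hle ≫ h = k ≫ V.ι := by
  haveI : CompactSpace (V : Scheme.{u}) := isCompact_iff_compactSpace.1 hV
  haveI : CompactSpace Y := QuasiCompact.compactSpace_of_compactSpace πY
  haveI : QuasiSeparatedSpace Y := quasiSeparatedSpace_of_quasiSeparated πY
  let v : (V : Scheme.{u}) ⟶ pullback g πY := pullback.lift V.ι j hj.symm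
  have hv : v ≫ pullback.snd g πY = j := pullback.lift_snd _ _ _
  haveI : QuasiCompact v := by
    have : QuasiCompact (v ≫ pullback.snd g πY) := by rw [hv]; infer_instance
    exact QuasiCompact.of_comp v (pullback.snd g πY)
  haveI := std_toImage v
  let ψ : v.image ⟶ Y := v.imageι ≫ pullback.snd g πY
  let R := j.opensRange
  let d : (R : Scheme.{u}) ⟶ v.image := j.isoOpensRange.inv ≫ v.toImage
  have hd : d ≫ ψ = R.ι := by
    simp only [d, ψ, Category.assoc, Scheme.Hom.toImage_imageι_assoc, hv]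
    exact j.isoOpensRange_inv_comp
  haveI : IsIso (ψ ∣_ R) := isIso_of_section ψ R d hd
  have hRc : IsCompact (R : Set Y) := by
    show IsCompact (Set.range j)
    exact isCompact_range j.continuous
  obtain ⟨𝓘, Y', b, hb, hadm, hsupp, hq⟩ := exists_blowUp ψ R hRc
  refine ⟨𝓘, Y', b, hb, hadm, hsupp, ?_⟩
  haveI : IsProper b := BlowUpExists.isProper_of_isBlowUp hb hadm.1
  have H := IsPullback.of_hasPullback ψ b
  obtain ⟨𝒥, h𝒥⟩ := exists_isTorsionIdeal
    (isFG_comap' (pullback.fst ψ b) (isFG_comap' ψ hadm.1))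
  haveI := hq _ _ _ H 𝒥 h𝒥
  haveI := isIso_restrict H hsupp h𝒥
  set q := 𝒥.subschemeι ≫ pullback.snd ψ b with hqd
  have hle : b ⁻¹ᵁ R ≤ q.opensRange := by
    intro y hy
    obtain ⟨z, hz⟩ := (q ∣_ (b ⁻¹ᵁ R)).surjective ⟨y, hy⟩
    refine ⟨z.1, ?_⟩
    have := congrArg Subtype.val hz
    simpa using this
  let m := q.isoOpensRange.inv ≫ 𝒥.subschemeι ≫ pullback.fst ψ b
  have hm : m ≫ ψ = q.opensRange.ι ≫ b := by
    simp only [m, Category.assoc, pullback.condition]
    rw [← Category.assoc 𝒥.subschemeι, ← hqd, ← Category.assoc, Scheme.Hom.isoOpensRange_inv_comp]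
  refine ⟨q.opensRange, hle, m ≫ v.imageι ≫ pullback.fst g πY, inferInstance, ?_,
    (b ∣_ R) ≫ j.isoOpensRange.inv, ?_, ?_⟩
  · simp only [Category.assoc, pullback.condition]
    rw [← reassoc_of% hm]
    simp only [ψ, Category.assoc]
  · rw [Category.assoc, Scheme.Hom.isoOpensRange_inv_comp]
  · have h3 : Y'.homOfLE hle ≫ m = (b ∣_ R) ≫ d := by
      refine eq_comp_of_section ψ R d hd _ _ ?_
      rw [Category.assoc, hm, morphismRestrict_ι, Scheme.homOfLE_ι_assoc]
    rw [reassoc_of% h3]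
    simp only [d, Category.assoc, Scheme.Hom.toImage_imageι_assoc, v, pullback.lift_fst]

end Groth.Agent.H22.StrictTransform
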