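import Groth.Agent.H22.StrictTransform.Result

/-!
# Existence of the ideal of torsion functions; domination of modifications
-/

set_option autoImplicit false
set_option maxHeartbeats 1000000

noncomputable section

universe u

open CategoryTheory CategoryTheory.Limits AlgebraicGeometry TopologicalSpace

namespace Groth.Agent.H22.StrictTransform

open Groth.Agent.Lib

variable {X S : Scheme.{u}}

theorem mem_basicOpen_of_notMem_support {E : X.IdealSheafData} (W : X.affineOpens) {s : Set Γ(X, W.1)}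
    (hs : Ideal.span s = E.ideal W) {x : X} (hx : x ∈ W.1) :
    x ∉ E.support ↔ ∃ e ∈ s, x ∈ X.basicOpen e := by
  rw [Lib.Ideal.Prime.mem_support_iff_le_prime _ W hx, ← hs, Ideal.span_le, Set.not_subset]
  simp only [SetLike.mem_coe, Lib.Ideal.EffCartier.mem_basicOpen_iff_notMem_prime W.2 hx]

/-- The complement of the support. -/
abbrev off (E : X.IdealSheafData) : X.Opens := E.support.compl

theorem quasiCompact_compl {E : X.IdealSheafData} (hE : Lim.IdealExt.IsFG E) :
    QuasiCompact (off E).ι := by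
  refine (quasiCompact_iff_forall_isAffineOpen).2 fun W hW => ?_
  rw [(off E).ι.isOpenEmbedding.isInducing.isCompact_iff]
  obtain ⟨s, hs⟩ := hE ⟨W, hW⟩
  have : (off E).ι '' ((off E).ι ⁻¹' (W : Set X)) =
      ⋃ e ∈ s, (X.basicOpen e : Set X) := by
    rw [Set.image_preimage_eq_inter_range, Scheme.Opens.range_ι]
    ext x
    simp only [Set.mem_inter_iff, SetLike.mem_coe, Set.mem_iUnion₂]
    constructor
    · rintro ⟨hxW, hx⟩
      obtain ⟨e, he, hxe⟩ := (mem_basicOpen_of_notMem_support ⟨W, hW⟩ hs hxW).1 hx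
      exact ⟨e, he, hxe⟩
    · rintro ⟨e, he, hxe⟩
      exact ⟨X.basicOpen_le e hxe,
        (mem_basicOpen_of_notMem_support ⟨W, hW⟩ hs (X.basicOpen_le e hxe)).2 ⟨e, he, hxe⟩⟩
  show IsCompact ((off E).ι '' ((off E).ι ⁻¹' (W : Set X)))
  rw [this]
  exact s.isCompact_biUnion fun e _ => (hW.basicOpen e).isCompact

theorem exists_isTorsionIdeal {E : X.IdealSheafData} (hE : Lim.IdealExt.IsFG E) :
    ∃ 𝒥, IsTorsionIdeal E 𝒥 := by
  haveI := quasiCompact_compl hE
  refine ⟨(off E).ι.ker, fun W a => ?_⟩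
  rw [Scheme.Hom.ker_apply, RingHom.mem_ker]
  obtain ⟨s, hs⟩ := hE W
  have key : (off E).ι.app W.1 a = 0 ↔
      ∀ x (hx : x ∈ W.1), x ∉ E.support → X.presheaf.germ W.1 x hx a = 0 := by
    constructor
    · intro h x hx hxE
      have h1 := congrArg (((off E) : X.Opens).toScheme.presheaf.germ _ ⟨x, hxE⟩
        (show (⟨x, hxE⟩ : (off E).toScheme) ∈ (off E).ι ⁻¹ᵁ W.1 from hx)) h
      rw [map_zero] at h1
      refine (ConcreteCategory.bijective_of_isIso
        ((off E).ι.stalkMap ⟨x, hxE⟩)).1 ?_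
      exact ((Scheme.Hom.germ_stalkMap_apply (off E).ι W.1 ⟨x, hxE⟩ hx a).trans h1).trans
        (map_zero _).symm
    · intro h
      refine TopCat.Presheaf.section_ext (off E).toScheme.sheaf _ _ 0 fun y hy => ?_
      change (off E).toScheme.presheaf.germ _ y hy _ =
        (off E).toScheme.presheaf.germ _ y hy 0
      rw [map_zero, ← Scheme.Hom.germ_stalkMap_apply, h _ hy y.2, map_zero]
  rw [key]
  constructor
  · intro h
    have hrad : E.ideal W ≤ (Ideal.span {a}).annihilator.radical := by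
      intro e he
      haveI := W.2.isLocalization_basicOpen e
      have h0 : algebraMap Γ(X, W.1) Γ(X, X.basicOpen e) a = 0 := by
        change X.presheaf.map (homOfLE (X.basicOpen_le e)).op a = 0
        refine TopCat.Presheaf.section_ext X.sheaf _ _ 0 fun y hy => ?_
        change X.presheaf.germ _ y hy _ = X.presheaf.germ _ y hy 0
        rw [map_zero, TopCat.Presheaf.germ_res_apply]
        refine h y _ fun hys => ?_
        exact (X.mem_zeroLocus_iff _ _).1
          ((Scheme.IdealSheafData.mem_support_iff_of_mem (U := W) (X.basicOpen_le e hy)).1 hys) e he hy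
      obtain ⟨⟨_, n, rfl⟩, hm⟩ := (IsLocalization.map_eq_zero_iff (Submonoid.powers e) _ a).1 h0
      exact ⟨n, (Submodule.mem_annihilator_span_singleton a _).2 hm⟩
    obtain ⟨N, hN⟩ := Ideal.exists_pow_le_of_le_radical_of_fg hrad (hE W)
    refine ⟨N, fun c hc => ?_⟩
    rw [Scheme.IdealSheafData.ideal_pow, Pi.pow_apply] at hc
    exact (Submodule.mem_annihilator_span_singleton a c).1 (hN hc)
  · rintro ⟨n, hn⟩ x hx hxE
    obtain ⟨e, he, hxe⟩ := (mem_basicOpen_of_notMem_support W hs hx).1 hxE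
    have h1 := congrArg (X.presheaf.germ W.1 x hx) (hn (e ^ n) (by
      rw [Scheme.IdealSheafData.ideal_pow, Pi.pow_apply, ← hs]
      exact Ideal.pow_mem_pow (Ideal.subset_span he) n))
    rw [map_mul, map_pow, map_zero] at h1
    exact (((X.mem_basicOpen e x hx).1 hxe).pow n).mul_right_eq_zero.1 h1

/-- A blow-up dominating a proper modification. -/
theorem exists_dominating [CompactSpace S] [QuasiSeparatedSpace S]
    (φ : X ⟶ S) [IsProper φ] (U : S.Opens)
    (hU : IsCompact (U : Set S)) [IsIso (φ ∣_ U)] :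
    ∃ (𝓘 : S.IdealSheafData) (S' : Scheme.{u}) (b : S' ⟶ S), BlowUp.IsBlowUp b 𝓘 ∧
      BlowUp.IsAdmissibleFor U 𝓘 ∧ (𝓘.support : Set S) = (U : Set S)ᶜ ∧
      ∃ h : S' ⟶ X, h ≫ φ = b := by
  obtain ⟨𝓘, S', b, hb, hadm, hsupp, hq⟩ := exists_blowUp φ U hU
  refine ⟨𝓘, S', b, hb, hadm, hsupp, ?_⟩
  have H := IsPullback.of_hasPullback φ b
  obtain ⟨𝒥, h𝒥⟩ := exists_isTorsionIdeal (isFG_comap' (pullback.fst φ b) (isFG_comap' φ hadm.1))
  haveI := hq _ _ _ H 𝒥 h𝒥
  set q := 𝒥.subschemeι ≫ pullback.snd φ b with hqd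
  haveI : IsProper q := inferInstance
  haveI : IsIso (q ∣_ (b ⁻¹ᵁ U)) := isIso_restrict H hsupp h𝒥
  have hsurj : Function.Surjective q := by
    intro w
    by_contra hw
    let T : S'.Opens := ⟨(Set.range q)ᶜ, q.isClosedMap.isClosed_range.isOpen_compl⟩
    have hwT : w ∈ T := hw
    have h10 : (1 : Γ(S', T)) = 0 := by
      refine Lib.Ideal.EffCartier.eq_zero_of_germ_eq_zero_off hb.1 _ fun y hy hys => ?_
      exfalso
      have hyU : b y ∈ U := by
        by_contra hn
        refine hys ?_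
        rw [Scheme.IdealSheafData.support_comap]
        show b y ∈ (𝓘.support : Set S)
        rw [hsupp]; exact hn
      obtain ⟨z, hz⟩ := (q ∣_ (b ⁻¹ᵁ U)).surjective ⟨y, hyU⟩
      refine hy ⟨z.1, ?_⟩
      have := congrArg Subtype.val hz
      simpa using this
    have := congrArg (S'.presheaf.germ T w hwT) h10
    rw [map_one, map_zero] at this
    exact one_ne_zero this
  haveI : Surjective q := ⟨hsurj⟩
  haveI : IsIso q := (isIso_iff_isOpenImmersion_and_epi_base q).2
    ⟨inferInstance, (TopCat.epi_iff_surjective _).2 hsurj⟩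
  refine ⟨inv q ≫ 𝒥.subschemeι ≫ pullback.fst φ b, ?_⟩
  rw [Category.assoc, Category.assoc, IsIso.inv_comp_eq, hqd, Category.assoc, pullback.condition]

end Groth.Agent.H22.StrictTransform
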