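import Groth.Agent.Lib.FittSheaf.Gen
import Groth.Agent.Lib.Ideal.EffCartier
import Groth.Prelude.Def_BlowUp2
import Mathlib.LinearAlgebra.Dimension.OrzechProperty

/-!
# Strict transforms of modules along blow-ups of Fitting ideals
-/

set_option autoImplicit false
set_option maxHeartbeats 1000000

noncomputable section

universe u

open CategoryTheory AlgebraicGeometry TopologicalSpace Opposite

namespace Groth.Agent.H22.StrictTransform

open Groth.Agent Groth.Agent.Lib

section Algebra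

variable {R : Type u} [CommRing R] [IsLocalRing R] {M : Type u} [AddCommGroup M] [Module R M]
  [Module.Finite R M] {k : ℕ} {t : R}

omit [IsLocalRing R] [Module.Finite R M] in
lemma exists_sup_of_smul {N : Submodule R M} {c : R} (hc : IsUnit c) (h : ∀ y : M, c • y ∈ N)
    (y : M) : y ∈ N :=
  (N.smul_mem_iff_of_isUnit hc).1 (h y)

/-- If `Fit_k(M) = (t)` then `M` is generated by `k` elements modulo the `t`-torsion. -/
theorem exists_gen_sup_ker (ht : t ∈ nonZeroDivisors R) (h : Fitt.ideal R M k = Ideal.span {t}) :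
    ∃ g : Fin k → M, Submodule.span R (Set.range g) ⊔
      LinearMap.ker (t • (LinearMap.id : M →ₗ[R] M)) = ⊤ := by
  obtain ⟨n, x, hx⟩ := Module.Finite.exists_fin (R := R) (M := M)
  obtain ⟨z, e, c, hz, he, hc, hcp⟩ := H25.Fitting.exists_minor x hx t h (IsLocalRing.maximalIdeal R)
    (fun d hd => by rw [(mul_left_mem_nonZeroDivisors_eq_zero_iff ht).mp hd]; exact zero_mem _)
  obtain ⟨g, hg⟩ := H25.Fitting.exists_span_sup x hx t c h.le z hz e he hc
  exact ⟨g, eq_top_iff.2 fun y _ => exists_sup_of_smul (IsLocalRing.notMem_maximalIdeal.1 hcp) hg y⟩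

/-- If moreover `Fit_{k-1}(M) = 0` then these elements form a basis modulo the `t`-torsion. -/
theorem exists_basis_sup_ker (h : H25.Fitting.Principal M k t) :
    ∃ g : Fin k → M, Submodule.span R (Set.range g) ⊔
      LinearMap.ker (t • (LinearMap.id : M →ₗ[R] M)) = ⊤ ∧
      ∀ a : Fin k → R, t • (∑ i, a i • g i) = 0 → a = 0 := by
  obtain ⟨c, hc, g, hg, hind⟩ := h.approx (IsLocalRing.maximalIdeal R)
  have hu : IsUnit c := IsLocalRing.notMem_maximalIdeal.1 hc
  refine ⟨g, eq_top_iff.2 fun y _ => exists_sup_of_smul hu hg y, fun a ha => funext fun i => ?_⟩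
  exact hu.mul_right_eq_zero.1 (hind a (show _ ∈ LinearMap.ker _ from ha) i)

end Algebra

variable {X : Scheme.{u}}

/-- Near `x` every germ in the span at `x` stays in the span. -/
theorem exists_nhd_mem_span {G : X.Modules} {k : ℕ} {U₁ : X.Opens} (s : Fin k → Γ(G, U₁)) {x : X}
    (hx₁ : x ∈ U₁) {U : X.Opens} (hx : x ∈ U) (m : Γ(G, U))
    (h : G.presheaf.germ U x hx m ∈ Submodule.span (X.presheaf.stalk x)
      (Set.range fun i => G.presheaf.germ U₁ x hx₁ (s i))) :
    ∀ᶠ y in nhds x, ∀ (hy : y ∈ U) (hy₁ : y ∈ U₁), G.presheaf.germ U y hy m ∈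
      Submodule.span (X.presheaf.stalk y) (Set.range fun i => G.presheaf.germ U₁ y hy₁ (s i)) := by
  obtain ⟨W, hxW, w, hw, hall⟩ : ∃ (W : X.Opens) (hxW : x ∈ W) (w : Γ(G, W)),
      G.presheaf.germ W x hxW w = G.presheaf.germ U x hx m ∧
      ∀ (y : X) (hy : y ∈ W) (hy₁ : y ∈ U₁), G.presheaf.germ W y hy w ∈
        Submodule.span (X.presheaf.stalk y) (Set.range fun i => G.presheaf.germ U₁ y hy₁ (s i)) := by
    generalize G.presheaf.germ U x hx m = v₀ at h ⊢
    induction h using Submodule.span_induction with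
    | mem v hv =>
      obtain ⟨i, rfl⟩ := hv
      exact ⟨U₁, hx₁, s i, rfl, fun y hy _ => Submodule.subset_span ⟨i, rfl⟩⟩
    | zero =>
      exact ⟨⊤, trivial, 0, map_zero _, fun y _ _ => by rw [map_zero]; exact zero_mem _⟩
    | add v v' _ _ hv hv' =>
      obtain ⟨W, hW, w, rfl, hall⟩ := hv
      obtain ⟨W', hW', w', rfl, hall'⟩ := hv'
      refine ⟨W ⊓ W', ⟨hW, hW'⟩, G.presheaf.map (homOfLE inf_le_left).op w +
        G.presheaf.map (homOfLE inf_le_right).op w', ?_, fun y hy hy₁ => ?_⟩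
      · rw [map_add, TopCat.Presheaf.germ_res_apply, TopCat.Presheaf.germ_res_apply]
      · rw [map_add, TopCat.Presheaf.germ_res_apply, TopCat.Presheaf.germ_res_apply]
        exact add_mem (hall y hy.1 hy₁) (hall' y hy.2 hy₁)
    | smul a v _ hv =>
      obtain ⟨W, hW, w, rfl, hall⟩ := hv
      obtain ⟨W', hW', r, rfl⟩ := TopCat.Presheaf.exists_germ_eq X.presheaf a
      refine ⟨W ⊓ W', ⟨hW, hW'⟩, (X.presheaf.map (homOfLE (inf_le_right : W ⊓ W' ≤ W')).op r) •
        (show Γ(G, W ⊓ W') from G.presheaf.map (homOfLE inf_le_left).op w), ?_, fun y hy hy₁ => ?_⟩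
      · rw [Modules.StalkModule.germ_smul, TopCat.Presheaf.germ_res_apply,
          TopCat.Presheaf.germ_res_apply]
      · rw [Modules.StalkModule.germ_smul, TopCat.Presheaf.germ_res_apply,
          TopCat.Presheaf.germ_res_apply]
        exact Submodule.smul_mem _ _ (hall y hy.1 hy₁)
  obtain ⟨W', hxW', i, j, hij⟩ := G.presheaf.germ_eq x hxW hx w m hw
  filter_upwards [W'.2.mem_nhds hxW'] with y hy hyU hy₁
  have := congrArg (G.presheaf.germ W' y hy) hij
  rw [TopCat.Presheaf.germ_res_apply, TopCat.Presheaf.germ_res_apply] at this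
  rw [← this]
  exact hall y _ hy₁

/-- Generators of a stalk of a quotient of a finite type module generate nearby stalks. -/
theorem exists_spanning_sections {P G : X.Modules} [P.IsQuasicoherent]
    [SheafOfModules.IsFiniteType (R := X.ringCatSheaf) P] (π : P ⟶ G) [Epi π] {x : X} {k : ℕ}
    (g : Fin k → G.presheaf.stalk x) (hg : Submodule.span (X.presheaf.stalk x) (Set.range g) = ⊤) :
    ∃ U : X.Opens, x ∈ U ∧ ∃ s : Fin k → Γ(G, U), ∀ (y : X) (hy : y ∈ U),
      Submodule.span (X.presheaf.stalk y) (Set.range fun i => G.presheaf.germ U y hy (s i)) = ⊤ := by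
  obtain ⟨U₁, hx₁, s, hs⟩ : ∃ (U₁ : X.Opens) (hx₁ : x ∈ U₁) (s : Fin k → Γ(G, U₁)),
      ∀ i, G.presheaf.germ U₁ x hx₁ (s i) = g i := by
    choose V hV m hm using fun i => TopCat.Presheaf.exists_germ_eq G.presheaf (g i)
    exact ⟨Finset.univ.inf V, by
      rw [← SetLike.mem_coe, Opens.coe_finset_inf]; simp [Finset.inf_set_eq_iInter, hV],
      fun i => G.presheaf.map (homOfLE (Finset.inf_le (Finset.mem_univ i))).op (m i),
      fun i => (TopCat.Presheaf.germ_res_apply _ _ _ _ _).trans (hm i)⟩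
  obtain ⟨U₀, hU₀, hx₀, -⟩ := exists_isAffineOpen_mem_and_subset (show x ∈ (⊤ : X.Opens) from trivial)
  haveI : Module.Finite Γ(X, U₀) Γ(P, U₀) := CohBasics.Affine.finite_sections hU₀
  obtain ⟨n, v, hv⟩ := Module.Finite.exists_fin (R := Γ(X, U₀)) (M := Γ(P, U₀))
  have hev : ∀ᶠ y in nhds x, ∀ j, ∀ (hy : y ∈ U₀) (hy₁ : y ∈ U₁),
      G.presheaf.germ U₀ y hy (π.app U₀ (v j)) ∈ Submodule.span (X.presheaf.stalk y)
        (Set.range fun i => G.presheaf.germ U₁ y hy₁ (s i)) := by
    rw [Filter.eventually_all]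
    intro j
    refine exists_nhd_mem_span s hx₁ hx₀ _ ?_
    rw [show (fun i => G.presheaf.germ U₁ x hx₁ (s i)) = g from funext hs, hg]
    exact Submodule.mem_top
  obtain ⟨O, hO, hOo, hxO⟩ := eventually_nhds_iff.1 hev
  refine ⟨⟨O, hOo⟩ ⊓ U₀ ⊓ U₁, ⟨⟨hxO, hx₀⟩, hx₁⟩,
    fun i => G.presheaf.map (homOfLE inf_le_right).op (s i), fun y hy => ?_⟩
  simp only [TopCat.Presheaf.germ_res_apply]
  refine eq_top_iff.2 fun w _ => ?_
  obtain ⟨w, rfl⟩ := (Modules.StalkModule.epi_iff_stalkMapₗ_surjective π).1 ‹Epi π› y w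
  have hw : w ∈ Submodule.span (X.presheaf.stalk y)
      (P.presheaf.germ U₀ y hy.1.2 '' Set.range v) := by
    rw [CohBasics.Affine.germ_span_eq_top hU₀ _ hv hy.1.2]; trivial
  refine Submodule.span_le.2 ?_
    (Submodule.apply_mem_span_image_of_mem_span (Modules.StalkModule.stalkMapₗ π y) hw)
  rintro _ ⟨_, ⟨_, ⟨j, rfl⟩, rfl⟩, rfl⟩
  rw [SetLike.mem_coe, Modules.StalkModule.stalkMapₗ_germ]
  exact hO y hy.1.1 j hy.1.2 hy.2

/-- Spanning sections give an epimorphism from a free module, an isomorphism if they are bases. -/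
theorem exists_free_of_spanning {G : X.Modules} {U : X.Opens} {k : ℕ} (s : Fin k → Γ(G, U))
    (hs : ∀ (y : X) (hy : y ∈ U), Submodule.span (X.presheaf.stalk y)
      (Set.range fun i => G.presheaf.germ U y hy (s i)) = ⊤) :
    ∃ q : FlatMod.freeMod (↑U) k ⟶ G.restrict U.ι, Epi q ∧
      ((∀ (y : X) (hy : y ∈ U), LinearIndependent (X.presheaf.stalk y)
        fun i => G.presheaf.germ U y hy (s i)) → IsIso q) := by
  have htop : U.ι ''ᵁ ⊤ = U := U.ι_image_top
  let t : Fin k → Γ(G.restrict U.ι, ⊤) := fun i => G.presheaf.map (homOfLE htop.le).op (s i)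
  let b := fun y : (U : Scheme.{u}) => Modules.FreeStalk.stalkBasis (U : Scheme.{u}) k y
  let q := Modules.Free.freeHom t
  let e := fun y : (U : Scheme.{u}) => Modules.StalkRestrict.restrictStalkAddEquiv U.ι G y
  have he : ∀ (y : (U : Scheme.{u})) i, e y (Modules.StalkModule.stalkMapₗ q y (b y i)) =
      G.presheaf.germ U (U.ι y) y.2 (s i) := fun y i => by
    simp only [b, Modules.FreeStalk.stalkBasis_apply, q, Modules.Free.freeHom_stalk_germ]
    refine (Modules.StalkRestrict.restrictStalkAddEquiv_germ U.ι G (U := ⊤) trivial _).trans ?_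
    exact TopCat.Presheaf.germ_res_apply _ _ _ _ _
  have hsurj : ∀ y, Function.Surjective (Modules.StalkModule.stalkMapₗ q y) := fun y => by
    rw [← LinearMap.range_eq_top, eq_top_iff]
    intro w _
    let h' : Fin k → (G.restrict U.ι).presheaf.stalk y := fun i =>
      Modules.StalkModule.stalkMapₗ q y (b y i)
    have h2 := Modules.StalkRestrict.span_image_restrictStalkAddEquiv U.ι G y (Set.range h')
    obtain ⟨w', hw', hww'⟩ := h2.le (show e y w ∈
        Submodule.span _ (e y '' Set.range h') by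
      rw [← Set.range_comp, show e y ∘ h' = fun i => G.presheaf.germ U (U.ι y) y.2 (s i) from
        funext (he y), hs (U.ι y) y.2]
      exact Submodule.mem_top)
    rw [(e y).injective hww'] at hw'
    refine (Submodule.span_le.2 ?_) hw'
    rintro _ ⟨i, rfl⟩
    exact ⟨_, rfl⟩
  refine ⟨q, (Modules.StalkModule.epi_iff_stalkMapₗ_surjective q).2 hsurj, fun hli => ?_⟩
  refine (Modules.StalkModule.isIso_iff_stalkMapₗ_bijective q).2 fun y => ⟨?_, hsurj y⟩
  rw [← LinearMap.ker_eq_bot, eq_bot_iff]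
  intro v hv
  rw [LinearMap.mem_ker, ← (b y).sum_repr v, map_sum] at hv
  choose a ha using fun i =>
    (ConcreteCategory.bijective_of_isIso (U.ι.stalkMap y)).surjective ((b y).repr v i)
  have h0 : ∑ i, a i • G.presheaf.germ U (U.ι y) y.2 (s i) = 0 := by
    refine Eq.trans ?_ ((congrArg (e y) hv).trans (map_zero (e y)))
    rw [map_sum]
    refine Finset.sum_congr rfl fun i _ => ?_
    rw [map_smul, ← ha, ← he]
    exact (Modules.StalkRestrict.restrictStalkAddEquiv_smul U.ι G y (a i) _).symm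
  have := Fintype.linearIndependent_iff.1 (hli (U.ι y) y.2) a h0
  rw [Submodule.mem_bot, ← (b y).sum_repr v]
  exact Finset.sum_eq_zero fun i _ => by rw [← ha, this i, map_zero, zero_smul]

/-- The kernel of a strict transform on stalks. -/
theorem stalk_ker_iff' {X' : Scheme.{u}} {E : X'.IdealSheafData} {P G : X'.Modules} (π : P ⟶ G)
    (hG : ∀ (V : X'.affineOpens) (m : P.presheaf.obj (op V.1)),
      π.app V.1 m = 0 ↔ BlowUp.KilledByPowerNear E P V m)
    {x : X'} (W : X'.affineOpens) (hxW : x ∈ W.1)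
    (t : Γ(X', W.1)) (htW : E.ideal W = Ideal.span {t})
    (v : P.presheaf.stalk x) :
    Modules.StalkModule.stalkMapₗ π x v = 0 ↔
      ∃ n : ℕ, X'.presheaf.germ W.1 x hxW t ^ n • v = 0 := by
  obtain ⟨U, hxU, m, rfl⟩ := TopCat.Presheaf.exists_germ_eq P.presheaf v
  have hgen : ∀ (V : X'.affineOpens) (h : V.1 ≤ W.1) (n : ℕ), (E ^ n).ideal V =
      Ideal.span {X'.presheaf.map (homOfLE h).op (t ^ n)} := fun V h n => by
    rw [Scheme.IdealSheafData.ideal_pow, Pi.pow_apply, Ideal.EffCartier.ideal_eq_span_of_le h htW,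
      Ideal.span_singleton_pow, map_pow]
  rw [show Modules.StalkModule.stalkMapₗ π x (P.presheaf.germ U x hxU m) =
    G.presheaf.germ U x hxU (π.app U m) from Modules.StalkModule.stalkMapₗ_germ π hxU m]
  constructor
  · intro h0
    rw [← map_zero (G.presheaf.germ U x hxU).hom] at h0
    obtain ⟨U', hxU', i, j, hij⟩ := G.presheaf.germ_eq x hxU hxU _ _ h0
    obtain ⟨V, hV, hxV, hle⟩ := exists_isAffineOpen_mem_and_subset (show x ∈ U' ⊓ W.1 from ⟨hxU', hxW⟩)
    have hVU : V ≤ U := fun y hy => i.le (hle hy).1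
    have hVW : V ≤ W.1 := fun y hy => (hle hy).2
    have h1 : π.app V (P.presheaf.map (homOfLE hVU).op m) = 0 := by
      refine Eq.trans (ConcreteCategory.congr_hom (π.mapPresheaf.naturality (homOfLE hVU).op) m) ?_
      have h := congrArg (G.presheaf.map (homOfLE (show V ≤ U' from fun y hy => (hle hy).1)).op) hij
      rw [map_zero, map_zero, ← CategoryTheory.comp_apply, ← G.presheaf.map_comp] at h
      exact h
    obtain ⟨n, hn⟩ := (hG ⟨V, hV⟩ _).1 h1
    refine ⟨n, ?_⟩
    have h2 := congrArg (P.presheaf.germ V x hxV)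
      (hn (X'.presheaf.map (homOfLE hVW).op (t ^ n))
        (by rw [hgen ⟨V, hV⟩ hVW n]; exact Ideal.mem_span_singleton_self _))
    rw [Modules.StalkModule.germ_smul, map_zero, TopCat.Presheaf.germ_res_apply,
      TopCat.Presheaf.germ_res_apply, map_pow] at h2
    exact h2
  · rintro ⟨n, hn⟩
    obtain ⟨V₀, hxV₀, hV₀⟩ : ∃ V₀ : X'.Opens, x ∈ V₀ ∧ ∀ (V : X'.Opens) (_ : V ≤ V₀) (hVU : V ≤ U)
        (hVW : V ≤ W.1), X'.presheaf.map (homOfLE hVW).op (t ^ n) •
          (show Γ(P, V) from P.presheaf.map (homOfLE hVU).op m) = 0 := by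
      let N : X'.Opens := U ⊓ W.1
      let z : Γ(P, N) := X'.presheaf.map (homOfLE (inf_le_right : U ⊓ W.1 ≤ W.1)).op (t ^ n) •
        (show Γ(P, N) from P.presheaf.map (homOfLE inf_le_left).op m)
      have hz : P.presheaf.germ N x ⟨hxU, hxW⟩ z = P.presheaf.germ N x ⟨hxU, hxW⟩ 0 := by
        simp only [z]
        rw [map_zero, Modules.StalkModule.germ_smul, TopCat.Presheaf.germ_res_apply,
          TopCat.Presheaf.germ_res_apply, map_pow]
        exact hn
      obtain ⟨V₀, hxV₀, i, j, hij⟩ := P.presheaf.germ_eq x (U := N) (V := N) ⟨hxU, hxW⟩ ⟨hxU, hxW⟩ _ _ hz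
      refine ⟨V₀, hxV₀, fun V hV hVU hVW => ?_⟩
      have h := congrArg (P.presheaf.map (homOfLE hV).op) hij
      rw [map_zero, map_zero, ← CategoryTheory.comp_apply, ← P.presheaf.map_comp] at h
      refine Eq.trans ?_ h
      simp only [z]
      refine Eq.trans ?_ (Scheme.Modules.map_smul P _ _ _).symm
      rw [← CategoryTheory.comp_apply, ← X'.presheaf.map_comp,
        ← CategoryTheory.comp_apply, ← P.presheaf.map_comp]
      rfl
    obtain ⟨V, hV, hxV, hle⟩ :=
      exists_isAffineOpen_mem_and_subset (show x ∈ V₀ ⊓ (U ⊓ W.1) from ⟨hxV₀, hxU, hxW⟩)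
    have hVU : V ≤ U := fun y hy => (hle hy).2.1
    have hVW : V ≤ W.1 := fun y hy => (hle hy).2.2
    have h1 : π.app V (P.presheaf.map (homOfLE hVU).op m) = 0 := by
      refine (hG ⟨V, hV⟩ _).2 ⟨n, fun a ha => ?_⟩
      rw [hgen ⟨V, hV⟩ hVW n, Ideal.mem_span_singleton'] at ha
      obtain ⟨c, rfl⟩ := ha
      rw [mul_smul, hV₀ V (fun y hy => (hle hy).1) hVU hVW, smul_zero]
    rw [← TopCat.Presheaf.germ_res_apply G.presheaf (homOfLE hVU) x hxV,
      show G.presheaf.map (homOfLE hVU).op (π.app U m) = π.app V (P.presheaf.map (homOfLE hVU).op m)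
        from (ConcreteCategory.congr_hom (π.mapPresheaf.naturality (homOfLE hVU).op) m).symm, h1,
      map_zero]

variable {X' : Scheme.{u}} {b : X' ⟶ X} {F : X.Modules} [F.IsQuasicoherent]
  [SheafOfModules.IsFiniteType (R := X.ringCatSheaf) F] {k : ℕ} {G : X'.Modules}
  {π : (Scheme.Modules.pullback b).obj F ⟶ G}

/-- The data at a point: a generator of the Fitting ideal. -/
theorem exists_stalk_data (hI : BlowUp.IsEffCartierIdeal ((Fitt.sheafIdeal F k).comap b))
    (hG : BlowUp.IsStrictTransform b (Fitt.sheafIdeal F k) F G π) (x : X') :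
    ∃ t : X'.presheaf.stalk x, t ∈ nonZeroDivisors (X'.presheaf.stalk x) ∧
      Fitt.ideal (X'.presheaf.stalk x) (((Scheme.Modules.pullback b).obj F).presheaf.stalk x) k =
        Ideal.span {t} ∧
      ∀ v, Modules.StalkModule.stalkMapₗ π x v = 0 ↔ ∃ n : ℕ, t ^ n • v = 0 := by
  haveI := QCoh.Pullback.isQCoh_pullback b F
  haveI := Modules.SupportOps.isFT_pullback b F
  obtain ⟨W, hxW, -, t, ht, htW⟩ := Ideal.EffCartier.exists_gen hI x (W := ⊤) trivial
  refine ⟨_, Ideal.EffCartier.germ_mem_nonZeroDivisors W.2 ht x hxW, ?_,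
    fun v => stalk_ker_iff' π hG.2 W hxW t htW v⟩
  rw [← FittSheaf.map_sheafIdeal _ W hxW, ← FittSheaf.sheafIdeal_comap, htW, Ideal.map_span,
    Set.image_singleton]

theorem finite_stalk_pullback (x : X') : Module.Finite (X'.presheaf.stalk x)
    (((Scheme.Modules.pullback b).obj F).presheaf.stalk x) := by
  haveI := QCoh.Pullback.isQCoh_pullback b F
  haveI := Modules.SupportOps.isFT_pullback b F
  obtain ⟨U, hU, hx, -⟩ := exists_isAffineOpen_mem_and_subset (show x ∈ (⊤ : X'.Opens) from trivial)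
  haveI : Module.Finite Γ(X', U) Γ((Scheme.Modules.pullback b).obj F, U) :=
    CohBasics.Affine.finite_sections hU
  exact FittSheaf.finite_stalk _ hU hx

omit [F.IsQuasicoherent] [SheafOfModules.IsFiniteType (R := X.ringCatSheaf) F] in
/-- Images of generators modulo torsion generate the strict transform. -/
theorem span_image_eq_top [Epi π] {x : X'} {t : X'.presheaf.stalk x}
    (hker : ∀ v, Modules.StalkModule.stalkMapₗ π x v = 0 ↔ ∃ n : ℕ, t ^ n • v = 0)
    {g : Fin k → ((Scheme.Modules.pullback b).obj F).presheaf.stalk x}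
    (hg : Submodule.span (X'.presheaf.stalk x) (Set.range g) ⊔
      LinearMap.ker (t • (LinearMap.id : _ →ₗ[X'.presheaf.stalk x] _)) = ⊤) :
    Submodule.span (X'.presheaf.stalk x)
      (Set.range fun i => Modules.StalkModule.stalkMapₗ π x (g i)) = ⊤ := by
  refine eq_top_iff.2 fun w _ => ?_
  obtain ⟨v, rfl⟩ := (Modules.StalkModule.epi_iff_stalkMapₗ_surjective π).1 ‹Epi π› x w
  obtain ⟨u, hu, z, hz, rfl⟩ := Submodule.mem_sup.1 (hg.ge (Submodule.mem_top : v ∈ ⊤))
  have hz' : Modules.StalkModule.stalkMapₗ π x z = 0 := (hker z).2 ⟨1, by rw [pow_one]; exact hz⟩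
  rw [map_add, hz', add_zero, Set.range_comp' (Modules.StalkModule.stalkMapₗ π x) g,
    Submodule.span_image]
  exact Submodule.mem_map_of_mem hu

/-- The strict transform is locally generated by `k` sections. -/
theorem exists_epi_free (hI : BlowUp.IsEffCartierIdeal ((Fitt.sheafIdeal F k).comap b))
    (hG : BlowUp.IsStrictTransform b (Fitt.sheafIdeal F k) F G π) (x : X') :
    ∃ U : X'.Opens, x ∈ U ∧ ∃ q : FlatMod.freeMod (↑U) k ⟶ G.restrict U.ι, Epi q := by
  haveI := QCoh.Pullback.isQCoh_pullback b F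
  haveI := Modules.SupportOps.isFT_pullback b F
  haveI := hG.1
  haveI := finite_stalk_pullback (F := F) (b := b) x
  obtain ⟨t, ht, hfit, hker⟩ := exists_stalk_data hI hG x
  obtain ⟨g, hg⟩ := exists_gen_sup_ker ht hfit
  obtain ⟨U, hxU, s, hs⟩ := exists_spanning_sections π _ (span_image_eq_top hker hg)
  obtain ⟨q, hq, -⟩ := exists_free_of_spanning s hs
  exact ⟨U, hxU, q, hq⟩

/-- The strict transform is locally free of rank `k` if the lower Fitting ideals vanish upstairs. -/
theorem isFinLocFreeOfRank (hI : BlowUp.IsEffCartierIdeal ((Fitt.sheafIdeal F k).comap b))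
    (hlt : ∀ j, j + 1 = k → Fitt.sheafIdeal ((Scheme.Modules.pullback b).obj F) j = ⊥)
    (hG : BlowUp.IsStrictTransform b (Fitt.sheafIdeal F k) F G π) :
    FlatMod.IsFinLocFreeOfRank k G := by
  haveI := QCoh.Pullback.isQCoh_pullback b F
  haveI := Modules.SupportOps.isFT_pullback b F
  haveI := hG.1
  have hbasis : ∀ y : X', ∃ B : Fin k → G.presheaf.stalk y,
      LinearIndependent (X'.presheaf.stalk y) B ∧
      Submodule.span (X'.presheaf.stalk y) (Set.range B) = ⊤ := by
    intro y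
    haveI := finite_stalk_pullback (F := F) (b := b) y
    obtain ⟨t, ht, hfit, hker⟩ := exists_stalk_data hI hG y
    have hP : H25.Fitting.Principal
        (((Scheme.Modules.pullback b).obj F).presheaf.stalk y) k t := by
      refine ⟨ht, hfit, fun j hj => ?_⟩
      obtain ⟨U, hU, hy, -⟩ := exists_isAffineOpen_mem_and_subset (show y ∈ (⊤ : X'.Opens) from trivial)
      rw [← FittSheaf.map_sheafIdeal _ ⟨U, hU⟩ hy, hlt j hj, Scheme.IdealSheafData.ideal_bot]
      exact Ideal.map_bot
    obtain ⟨g, hg, hind⟩ := exists_basis_sup_ker hP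
    refine ⟨fun i => Modules.StalkModule.stalkMapₗ π y (g i), ?_, span_image_eq_top hker hg⟩
    refine Fintype.linearIndependent_iff.2 fun a ha i => ?_
    have : Modules.StalkModule.stalkMapₗ π y (∑ i, a i • g i) = 0 := by
      rw [map_sum]; simpa only [map_smul] using ha
    exact congrFun (hind a ((hP.pow_smul_eq_zero_iff _).1 ((hker _).1 this))) i
  intro x
  obtain ⟨B, -, hB⟩ := hbasis x
  obtain ⟨U, hxU, s, hs⟩ := exists_spanning_sections π B hB
  obtain ⟨q, -, hq⟩ := exists_free_of_spanning s hs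
  haveI : IsIso q := by
    refine hq fun y hy => ?_
    obtain ⟨B, hli, hsp⟩ := hbasis y
    let bB := Module.Basis.mk hli hsp.ge
    exact linearIndependent_of_top_le_span_of_card_eq_finrank (hs y hy).ge
      (by rw [Module.finrank_eq_card_basis bB])
  exact ⟨U, hxU, ⟨(asIso q).symm⟩⟩

end Groth.Agent.H22.StrictTransform
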