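import Groth.Agent.H22.StrictTransform.Torsion
import Groth.Agent.H22.StrictTransform.Chart
import Groth.Agent.Lib.BlowUpExists.Exists
import Groth.Agent.Lib.Ideal.Comap
import Mathlib.AlgebraicGeometry.Morphisms.Flat
import Mathlib.AlgebraicGeometry.Morphisms.Separated

/-!
# After blowing up the chart ideals the strict transform is an open of the base
-/

set_option autoImplicit false
set_option maxHeartbeats 1000000

noncomputable section

universe u

open CategoryTheory CategoryTheory.Limits AlgebraicGeometry TopologicalSpace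

namespace Groth.Agent.H22.StrictTransform

open Groth.Agent.Lib Groth.Agent.Lib.BlowUpExists

variable {X S S' X' : Scheme.{u}} {φ : X ⟶ S} {U : S.Opens}

/-- A local generator of an ideal which is the unit ideal over `U` is invertible there. -/
theorem mem_basicOpen_of_gen {b : S' ⟶ S} {J : S.IdealSheafData} (hJ : ∀ s ∈ U, s ∉ J.support)
    {V : S'.affineOpens} {f : Γ(S', V.1)} (hf : (J.comap b).ideal V = Ideal.span {f})
    {w : S'} (hw : w ∈ V.1) (hwU : b w ∈ U) : w ∈ S'.basicOpen f := by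
  by_contra hne
  refine hJ _ hwU ?_
  have h : w ∈ (J.comap b).support := by
    rw [Lib.Ideal.Prime.mem_support_iff_le_prime _ V hw, hf, Ideal.span_singleton_le_iff_mem]
    by_contra hn
    exact hne ((Lib.Ideal.EffCartier.mem_basicOpen_iff_notMem_prime V.2 hw f).2 hn)
  rw [Scheme.IdealSheafData.support_comap] at h
  exact h

variable {p₁ : X' ⟶ X} {p₂ : X' ⟶ S'} {b : S' ⟶ S}

theorem isIso_snd_restrict (H : IsPullback p₁ p₂ φ b) [IsIso (φ ∣_ U)] :
    IsIso (p₂ ∣_ (b ⁻¹ᵁ U)) := by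
  have h1 := ((isPullback_morphismRestrict p₂ (b ⁻¹ᵁ U)).flip.paste_horiz H).flip
  rw [← morphismRestrict_ι] at h1
  have hc : (p₂ ⁻¹ᵁ (b ⁻¹ᵁ U)) ≤ p₁ ⁻¹ᵁ (φ ⁻¹ᵁ U) := by
    intro z hz
    show φ (p₁ z) ∈ U
    rw [← Scheme.Hom.comp_apply, H.w]
    exact hz
  have h2 : IsPullback (p₂ ∣_ (b ⁻¹ᵁ U)) (p₁.resLE _ _ hc) (b ∣_ U) (φ ∣_ U) := by
    refine IsPullback.of_bot ?_ ?_ (isPullback_morphismRestrict φ U)
    · rw [Scheme.Hom.resLE_comp_ι]
      exact h1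
    · rw [← cancel_mono U.ι]
      simp only [Category.assoc, morphismRestrict_ι, morphismRestrict_ι_assoc, Scheme.Hom.resLE_comp_ι_assoc,
        H.w]
  exact MorphismProperty.of_isPullback (P := MorphismProperty.isomorphisms Scheme.{u}) h2.flip
    (inferInstanceAs (IsIso (φ ∣_ U)))

variable {𝓘 : S.IdealSheafData} {𝒥 : X'.IdealSheafData}

theorem mem_support_iff (H : IsPullback p₁ p₂ φ b) (hsupp : (𝓘.support : Set S) = (U : Set S)ᶜ)
    (x : X') : x ∈ ((𝓘.comap φ).comap p₁).support ↔ b (p₂ x) ∉ U := by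
  simp only [Scheme.IdealSheafData.support_comap]
  show φ (p₁ x) ∈ (𝓘.support : Set S) ↔ _
  rw [hsupp, ← Scheme.Hom.comp_apply, H.w]
  rfl

variable (H : IsPullback p₁ p₂ φ b) (hsupp : (𝓘.support : Set S) = (U : Set S)ᶜ)
  (hfg : Lim.IdealExt.IsFG ((𝓘.comap φ).comap p₁))
  (h𝒥 : IsTorsionIdeal ((𝓘.comap φ).comap p₁) 𝒥)

include H hsupp h𝒥 in
theorem isIso_restrict [IsIso (φ ∣_ U)] : IsIso ((𝒥.subschemeι ≫ p₂) ∣_ (b ⁻¹ᵁ U)) := by
  rw [morphismRestrict_comp]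
  have h2 := isIso_snd_restrict (U := U) H
  have h1 := h𝒥.isIso_morphismRestrict (p₂ ⁻¹ᵁ (b ⁻¹ᵁ U)) fun x hx h =>
    (mem_support_iff H hsupp x).1 h hx
  exact @IsIso.comp_isIso _ _ _ _ _ _ _ h1 h2

include H hsupp hfg h𝒥 in
theorem mem_nonZeroDivisors_of_unit {T : S'.Opens} {Y : 𝒥.subscheme.Opens}
    (e : Y ≤ (𝒥.subschemeι ≫ p₂) ⁻¹ᵁ T) (d : Γ(S', T))
    (hd : ∀ w ∈ T, b w ∈ U → w ∈ S'.basicOpen d) :
    (𝒥.subschemeι ≫ p₂).appLE T Y e d ∈ nonZeroDivisors Γ(𝒥.subscheme, Y) := by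
  refine Lib.Ideal.EffCartier.mem_nonZeroDivisors_of_eq_zero fun c hc => ?_
  refine h𝒥.eq_zero hfg c fun z hz hzE => ?_
  have hu : z ∈ 𝒥.subscheme.basicOpen ((𝒥.subschemeι ≫ p₂).appLE T Y e d) := by
    rw [Scheme.basicOpen_appLE]
    refine ⟨hz, hd _ (e hz) ?_⟩
    by_contra hn
    exact hzE ((mem_support_iff H hsupp _).2 hn)
  have hcz := congrArg (𝒥.subscheme.presheaf.germ Y z hz) hc
  rw [map_mul, map_zero] at hcz
  exact ((𝒥.subscheme.mem_basicOpen _ z hz).1 hu).mul_right_eq_zero.1 hcz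

variable (c : Chart φ U)

include H in
theorem appLE_comm {Y : 𝒥.subscheme.Opens} {V : S'.Opens} (eP : V ≤ b ⁻¹ᵁ c.P.1)
    (eV : Y ≤ (𝒥.subschemeι ≫ p₂) ⁻¹ᵁ V) (eQ : Y ≤ (𝒥.subschemeι ≫ p₁) ⁻¹ᵁ c.Q.1)
    (x : Γ(S, c.P.1)) :
    (𝒥.subschemeι ≫ p₂).appLE V Y eV (b.appLE c.P.1 V eP x) =
      (𝒥.subschemeι ≫ p₁).appLE c.Q.1 Y eQ (φ.appLE c.P.1 c.Q.1 c.le x) := by
  rw [← CommRingCat.comp_apply, ← CommRingCat.comp_apply, Scheme.Hom.appLE_comp_appLE,
    Scheme.Hom.appLE_comp_appLE]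
  congr 1
  congr 2
  all_goals simp only [Category.assoc, H.w]

include H hsupp hfg h𝒥 in
/-- Over a point of the strict transform of the chart one of the `t k` generates. -/
theorem exists_genAt (hJ : BlowUp.IsEffCartierIdeal (c.J.comap b)) {z : 𝒥.subscheme}
    (hz : (𝒥.subschemeι ≫ p₁) z ∈ c.Q.1) :
    ∃ k, GenAt c.J b c.P (c.t k) ((𝒥.subschemeι ≫ p₂) z) := by
  have hbP : (𝒥.subschemeι ≫ p₂) z ∈ b ⁻¹ᵁ c.P.1 := by
    show b ((𝒥.subschemeι ≫ p₂) z) ∈ c.P.1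
    rw [← Scheme.Hom.comp_apply, Category.assoc, ← H.w, ← Category.assoc, Scheme.Hom.comp_apply]
    exact c.le hz
  obtain ⟨V, hzV, hVP, f, hf, hfJ⟩ := Lib.Ideal.EffCartier.exists_gen hJ _ hbP
  obtain ⟨Y, hY, hzY, hYle⟩ := exists_isAffineOpen_mem_and_subset
    (show z ∈ (𝒥.subschemeι ≫ p₂) ⁻¹ᵁ V.1 ⊓ (𝒥.subschemeι ≫ p₁) ⁻¹ᵁ c.Q.1 from ⟨hzV, hz⟩)
  have eV : Y ≤ (𝒥.subschemeι ≫ p₂) ⁻¹ᵁ V.1 := fun y hy => (hYle hy).1
  have eQ : Y ≤ (𝒥.subschemeι ≫ p₁) ⁻¹ᵁ c.Q.1 := fun y hy => (hYle hy).2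
  set ψV := (𝒥.subschemeι ≫ p₂).appLE V.1 Y eV
  set ψQ := (𝒥.subschemeι ≫ p₁).appLE c.Q.1 Y eQ
  set bV := b.appLE c.P.1 V.1 hVP
  set φQ := φ.appLE c.P.1 c.Q.1 c.le
  have hcomm : ψV.hom.comp bV.hom = ψQ.hom.comp φQ.hom :=
    RingHom.ext fun x => appLE_comm H c hVP eV eQ x
  have hJV : Ideal.map bV.hom (c.J.ideal c.P) = Ideal.span {f} := by
    rw [← Lib.Ideal.Comap.ideal_comap b c.J c.P V hVP, hfJ]
  have he : ∀ k, ∃ e : Γ(S', V.1), e * f = bV (c.t k) := fun k =>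
    Ideal.mem_span_singleton'.1 (hJV.le (Ideal.mem_map_of_mem _ (c.t_mem k)))
  choose e he using he
  have hnzd := mem_nonZeroDivisors_of_unit H hsupp hfg h𝒥 eV f
    (fun w hw hwU => mem_basicOpen_of_gen c.disjoint hfJ hw hwU)
  have hmem : ψV f ∈ Ideal.span (Set.range fun k => ψV (e k)) * Ideal.span {ψV f} := by
    have h1 : ψV f ∈ Ideal.map (ψV.hom.comp bV.hom) (c.J.ideal c.P) := by
      rw [← Ideal.map_map, hJV]
      exact Ideal.mem_map_of_mem _ (Ideal.mem_span_singleton_self f)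
    rw [hcomm, ← Ideal.map_map] at h1
    have h2 := Ideal.map_mono (f := ψQ.hom) c.map_le h1
    rw [Ideal.map_map, ← hcomm, Ideal.map_span] at h2
    refine Ideal.span_le.2 ?_ h2
    rintro _ ⟨_, ⟨k, rfl⟩, rfl⟩
    change ψV (bV (c.t k)) ∈ _
    rw [← he, map_mul]
    exact Ideal.mul_mem_mul (Ideal.subset_span ⟨k, rfl⟩) (Ideal.mem_span_singleton_self _)
  obtain ⟨u, hu, hueq⟩ := Ideal.mem_mul_span_singleton.1 hmem
  have hu1 : u = 1 := mul_cancel_right_mem_nonZeroDivisors hnzd |>.1 (hueq.trans (one_mul _).symm)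
  obtain ⟨k, hk⟩ : ∃ k, ψV (e k) ∉ (hY.primeIdealOf ⟨z, hzY⟩).asIdeal := by
    by_contra! hall
    refine (hY.primeIdealOf ⟨z, hzY⟩).isPrime.ne_top ((Ideal.eq_top_iff_one _).2 ?_)
    rw [← hu1]
    exact Ideal.span_le.2 (by rintro _ ⟨k, rfl⟩; exact hall k) hu
  have hzk : z ∈ 𝒥.subscheme.basicOpen (ψV (e k)) :=
    (Lib.Ideal.EffCartier.mem_basicOpen_iff_notMem_prime hY hzY _).2 hk
  rw [Scheme.basicOpen_appLE] at hzk
  let V' : S'.affineOpens := ⟨S'.basicOpen (e k), V.2.basicOpen _⟩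
  have hle : V'.1 ≤ V.1 := S'.basicOpen_le (e k)
  refine ⟨k, V', hle.trans hVP, hzk.2, ?_⟩
  rw [Lib.Ideal.EffCartier.ideal_eq_span_of_le hle hfJ, ← appLE_res b hle hVP (c.t k),
    show b.appLE c.P.1 V.1 hVP (c.t k) = e k * f from (he k).symm, map_mul]
  refine (Ideal.span_singleton_mul_left_unit ?_ _).symm
  exact S'.toRingedSpace.isUnit_res_basicOpen (e k)

include H hsupp hfg h𝒥 in
/-- Where `t k` generates, the strict transform is an open of the base. -/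
theorem isIso_restrict_of_gen [IsSeparated φ] [IsIso (φ ∣_ U)]
    (hE : BlowUp.IsEffCartierIdeal (𝓘.comap b))
    (k : c.κ) (V : S'.affineOpens) (eP : V.1 ≤ b ⁻¹ᵁ c.P.1)
    (hV : (c.J.comap b).ideal V = Ideal.span {b.appLE c.P.1 V.1 eP (c.t k)}) :
    IsIso ((𝒥.subschemeι ≫ p₂) ∣_ V.1) := by
  set ι := 𝒥.subschemeι
  set q := ι ≫ p₂ with hq
  haveI : IsSeparated p₂ := MorphismProperty.of_isPullback H inferInstance
  have hunit : ∀ w ∈ V.1, b w ∈ U → w ∈ S'.basicOpen (b.appLE c.P.1 V.1 eP (c.t k)) :=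
    fun w hw hwU => mem_basicOpen_of_gen c.disjoint hV hw hwU
  -- the part lying in the chart
  let Y' : X'.Opens := p₁ ⁻¹ᵁ c.Q.1 ⊓ p₂ ⁻¹ᵁ V.1
  have hY' : IsAffineOpen Y' := by
    haveI : IsAffine _ := c.P.2
    haveI : IsAffine _ := c.Q.2
    haveI : IsAffine _ := V.2
    exact .of_isIso (Scheme.Hom.isPullback_resLE H eP c.le (UY := Y') rfl).isoPullback.hom
  let Y := ι ⁻¹ᵁ Y'
  have hY : IsAffineOpen Y := hY'.preimage ι
  have eV : Y ≤ q ⁻¹ᵁ V.1 := fun y hy => hy.2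
  have eQ : Y ≤ (ι ≫ p₁) ⁻¹ᵁ c.Q.1 := fun y hy => hy.1
  have hnzd := mem_nonZeroDivisors_of_unit H hsupp hfg h𝒥 eV _ hunit
  have hcoef : ∀ l, ∃ d : Γ(S', V.1),
      d * b.appLE c.P.1 V.1 eP (c.t k) = b.appLE c.P.1 V.1 eP (c.a k l) := fun l => by
    refine Ideal.mem_span_singleton'.1 (hV.le ?_)
    rw [Lib.Ideal.Comap.ideal_comap b c.J c.P V eP]
    exact Ideal.mem_map_of_mem _ (c.a_mem k l)
  have hsurj : Function.Surjective (q.appLE V.1 Y eV) := by
    set R := (q.appLE V.1 Y eV).hom.range with hR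
    have hQ : ∀ x, (ι ≫ p₁).appLE c.Q.1 Y eQ x ∈ R := by
      have : R.comap ((ι ≫ p₁).appLE c.Q.1 Y eQ).hom = ⊤ := by
        refine c.gen _ (fun x => ?_) fun l => ?_
        · exact ⟨_, appLE_comm H c eP eV eQ x⟩
        · obtain ⟨d, hd⟩ := hcoef l
          refine ⟨d, (mul_cancel_right_mem_nonZeroDivisors hnzd).1 ?_⟩
          have := congrArg (q.appLE V.1 Y eV) hd
          rw [map_mul, appLE_comm H c eP eV eQ, appLE_comm H c eP eV eQ, c.rel, map_mul] at this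
          rw [appLE_comm H c eP eV eQ]
          exact this.trans (mul_comm _ _)
      exact fun x => (eq_top_iff.1 this) (Subring.mem_top x)
    have hpo := (isIso_pushoutSection_iff H eP c.le (UY := Y') rfl).1
      (isIso_pushoutSection_of_isAffineOpen H eP c.le rfl c.P.2 V.2 c.Q.2)
    let R' := R.comap (ι.app Y').hom
    have h1 : ∀ x, p₁.appLE c.Q.1 Y' inf_le_left x ∈ R' := fun x => by
      show ι.app Y' _ ∈ R
      have h : p₁.appLE c.Q.1 Y' inf_le_left ≫ ι.app Y' = (ι ≫ p₁).appLE c.Q.1 Y eQ := by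
        rw [Scheme.Hom.app_eq_appLE, Scheme.Hom.appLE_comp_appLE]
      have := hQ x
      rw [← h] at this
      exact this
    have h2 : ∀ x, p₂.appLE V.1 Y' inf_le_right x ∈ R' := fun x => by
      show ι.app Y' _ ∈ R
      refine ⟨x, ?_⟩
      change (q.appLE V.1 Y eV) x = (p₂.appLE V.1 Y' inf_le_right ≫ ι.app Y') x
      rw [Scheme.Hom.app_eq_appLE, Scheme.Hom.appLE_comp_appLE]
    have hR' : R' = ⊤ := by
      let m₁ : Γ(X, c.Q.1) ⟶ CommRingCat.of R' :=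
        CommRingCat.ofHom ((p₁.appLE c.Q.1 Y' inf_le_left).hom.codRestrict R' h1)
      let m₂ : Γ(S', V.1) ⟶ CommRingCat.of R' :=
        CommRingCat.ofHom ((p₂.appLE V.1 Y' inf_le_right).hom.codRestrict R' h2)
      let d := hpo.desc m₁ m₂ (by
        ext x
        exact congrArg (fun ψ => (CommRingCat.Hom.hom ψ) x) hpo.w)
      have hd : d ≫ CommRingCat.ofHom R'.subtype = 𝟙 _ := by
        apply hpo.hom_ext
        · simp only [d, IsPushout.inl_desc_assoc, Category.comp_id]; rfl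
        · simp only [d, IsPushout.inr_desc_assoc, Category.comp_id]; rfl
      refine eq_top_iff.2 fun x _ => ?_
      have hx := congrArg (fun ψ => (CommRingCat.Hom.hom ψ) x) hd
      have hx' : (d x).1 = x := hx
      exact hx'.subst (motive := fun z => z ∈ R') (d x).2
    intro y
    obtain ⟨y', rfl⟩ := ι.app_surjective Y' hY' y
    exact (eq_top_iff.1 hR') (Subring.mem_top y')
  -- it is everything over `V`
  have hclosed : IsClosedImmersion (q.resLE V.1 Y eV) := by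
    haveI : IsAffine (Y : Scheme.{u}) := hY
    haveI : IsAffine (V.1 : Scheme.{u}) := V.2
    refine IsClosedImmersion.of_surjective_of_isAffine _ ?_
    have : (q.resLE V.1 Y eV).appTop = V.1.topIso.hom ≫ q.appLE V.1 Y eV ≫ Y.topIso.inv :=
      Scheme.Hom.resLE_app_top q eV
    rw [this]
    simp only [CommRingCat.hom_comp, RingHom.coe_comp]
    exact ((ConcreteCategory.bijective_of_isIso Y.topIso.inv).2.comp hsurj).comp
      (ConcreteCategory.bijective_of_isIso V.1.topIso.hom).2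
  have hall : q ⁻¹ᵁ V.1 = Y := by
    haveI : IsClosedImmersion (𝒥.subscheme.homOfLE eV ≫ q ∣_ V.1) := by
      rw [← Scheme.Hom.resLE_eq_morphismRestrict, Scheme.Hom.map_resLE]
      exact hclosed
    haveI : IsClosedImmersion (𝒥.subscheme.homOfLE eV) :=
      IsClosedImmersion.of_comp _ (q ∣_ V.1)
    have hcl : IsClosed ((q ⁻¹ᵁ V.1).ι ⁻¹' (Y : Set 𝒥.subscheme)) := by
      convert (𝒥.subscheme.homOfLE eV).isClosedEmbedding.isClosed_range using 1
      ext ⟨y, hy⟩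
      constructor
      · intro h; exact ⟨⟨y, h⟩, Subtype.ext (by simp)⟩
      · rintro ⟨⟨y', hy'⟩, he⟩
        have := congrArg Subtype.val he
        simp only [Scheme.homOfLE_apply] at this
        exact this ▸ hy'
    obtain ⟨O, hO, hOeq⟩ := isOpen_induced_iff.1 hcl.isOpen_compl
    refine le_antisymm (fun z hz => ?_) eV
    by_contra hzY
    let T : 𝒥.subscheme.Opens := ⟨O, hO⟩ ⊓ q ⁻¹ᵁ V.1
    have hzT : z ∈ T := ⟨(Set.ext_iff.1 hOeq ⟨z, hz⟩).2 hzY, hz⟩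
    have h10 : (1 : Γ(𝒥.subscheme, T)) = 0 := by
      refine h𝒥.eq_zero hfg _ fun y hy hyE => ?_
      exfalso
      have hyU : b (q y) ∈ U := by
        by_contra hn
        exact hyE ((mem_support_iff H hsupp _).2 hn)
      have hbt := hunit _ hy.2 hyU
      rw [Scheme.basicOpen_appLE] at hbt
      obtain ⟨hsU, x, hxQ, hx⟩ := c.image k _ hbt.2
      have hφ : φ ((ι ≫ p₁) y) = φ x := by
        rw [hx, ← Scheme.Hom.comp_apply, Category.assoc, H.w]
        rfl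
      have := injOn_of_isIso (U := U) (by rw [hx]; exact hsU) hφ
      exact (Set.ext_iff.1 hOeq ⟨y, hy.2⟩).1 hy.1
        ⟨(show (ι ≫ p₁) y ∈ c.Q.1 by rw [this]; exact hxQ), hy.2⟩
    have := congrArg (𝒥.subscheme.presheaf.germ T z hzT) h10
    rw [map_one, map_zero] at this
    exact one_ne_zero this
  -- iso
  haveI : IsAffine (V.1 : Scheme.{u}) := V.2
  haveI : IsClosedImmersion (q ∣_ V.1) := by
    have : q ∣_ V.1 = (𝒥.subscheme.isoOfEq hall).hom ≫ q.resLE V.1 Y eV := by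
      rw [← Scheme.Hom.resLE_eq_morphismRestrict, Scheme.isoOfEq_hom, Scheme.Hom.map_resLE]
    rw [this]
    haveI := hclosed
    infer_instance
  refine IsClosedImmersion.isIso_of_injective_of_isAffine ?_
  have hinj : Function.Injective (q.app V.1) := by
    refine (injective_iff_map_eq_zero _).2 fun a ha => ?_
    refine Lib.Ideal.EffCartier.eq_zero_of_germ_eq_zero_off hE a fun w hw hws => ?_
    have hwU : b w ∈ U := by
      by_contra hn
      refine hws ?_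
      rw [Scheme.IdealSheafData.support_comap]
      show b w ∈ (𝓘.support : Set S)
      rw [hsupp]; exact hn
    haveI := isIso_restrict H hsupp h𝒥
    haveI := isIso_app_of_le (φ := q) (U := b ⁻¹ᵁ U) (V.1 ⊓ b ⁻¹ᵁ U) inf_le_right
    have h0 : S'.presheaf.map (homOfLE (inf_le_left : V.1 ⊓ b ⁻¹ᵁ U ≤ V.1)).op a = 0 := by
      apply (ConcreteCategory.bijective_of_isIso (q.app (V.1 ⊓ b ⁻¹ᵁ U))).1
      rw [map_zero]
      refine (ConcreteCategory.congr_hom (q.naturality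
        (homOfLE (inf_le_left : V.1 ⊓ b ⁻¹ᵁ U ≤ V.1)).op) a).trans ?_
      rw [CommRingCat.comp_apply, ha, map_zero]
    rw [← TopCat.Presheaf.germ_res_apply S'.presheaf
      (homOfLE (inf_le_left : V.1 ⊓ b ⁻¹ᵁ U ≤ V.1)) w ⟨hw, hwU⟩, h0, map_zero]
  have htop : (q ∣_ V.1).appTop =
      V.1.topIso.hom ≫ q.app V.1 ≫ (q ⁻¹ᵁ V.1).topIso.inv := by
    rw [← Scheme.Hom.resLE_eq_morphismRestrict, Scheme.Hom.app_eq_appLE]
    exact Scheme.Hom.resLE_app_top q le_rfl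
  rw [htop]
  simp only [CommRingCat.hom_comp, RingHom.coe_comp]
  exact ((ConcreteCategory.bijective_of_isIso (q ⁻¹ᵁ V.1).topIso.inv).1.comp hinj).comp
    (ConcreteCategory.bijective_of_isIso V.1.topIso.hom).1

/-- The strict transform is an open immersion. -/
theorem isOpenImmersion {ι' : Type*} [IsSeparated φ] [IsIso (φ ∣_ U)] (charts : ι' → Chart φ U)
    (hcov : ∀ x : X, ∃ i, x ∈ (charts i).Q.1) (h𝓘 : Lim.IdealExt.IsFG ((𝓘.comap φ).comap p₁))
    (hsupp : (𝓘.support : Set S) = (U : Set S)ᶜ)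
    (hE : BlowUp.IsEffCartierIdeal (𝓘.comap b))
    (hJ : ∀ i, BlowUp.IsEffCartierIdeal ((charts i).J.comap b))
    (H : IsPullback p₁ p₂ φ b) (h𝒥 : IsTorsionIdeal ((𝓘.comap φ).comap p₁) 𝒥) :
    IsOpenImmersion (𝒥.subschemeι ≫ p₂) := by
  set q := 𝒥.subschemeι ≫ p₂
  let G := {V : S'.affineOpens // IsIso (q ∣_ V.1)}
  let O : S'.Opens := ⨆ V : G, V.1.1
  have hle : q ⁻¹ᵁ O = ⊤ := by
    refine eq_top_iff.2 fun z _ => ?_
    obtain ⟨i, hi⟩ := hcov ((𝒥.subschemeι ≫ p₁) z)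
    obtain ⟨k, V, eP, hzV, hV⟩ := exists_genAt H hsupp h𝓘 h𝒥 (charts i) (hJ i) hi
    exact Opens.mem_iSup.2
      ⟨⟨V, isIso_restrict_of_gen H hsupp h𝓘 h𝒥 (charts i) hE k V eP hV⟩, hzV⟩
  have hiso : IsIso (q ∣_ O) := by
    refine (IsZariskiLocalAtTarget.iff_of_iSup_eq_top (P := MorphismProperty.isomorphisms Scheme.{u})
      (fun V : G => O.ι ⁻¹ᵁ V.1.1) ?_).2 fun V => ?_
    · rw [← Scheme.Hom.preimage_iSup, Scheme.Opens.ι_preimage_self]
    · have := (MorphismProperty.isomorphisms Scheme.{u}).arrow_mk_iso_iff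
        (morphismRestrictRestrict q O (O.ι ⁻¹ᵁ V.1.1))
      rw [this]
      have h2 : O.ι ''ᵁ O.ι ⁻¹ᵁ V.1.1 = V.1.1 := by
        rw [Scheme.Hom.image_preimage_eq_opensRange_inf, Scheme.Opens.opensRange_ι,
          inf_eq_right.2 (le_iSup (fun V : G => V.1.1) V)]
      rw [((MorphismProperty.isomorphisms Scheme.{u}).arrow_mk_iso_iff
        (morphismRestrictEq q h2))]
      exact V.2
  have h : q = (Scheme.isoOfEq _ hle ≪≫ 𝒥.subscheme.topIso).inv ≫ (q ∣_ O) ≫ O.ι := by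
    rw [morphismRestrict_ι, Iso.eq_inv_comp]
    simp
  rw [h]
  infer_instance

end Groth.Agent.H22.StrictTransform
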