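import Groth.Agent.H22.StrictTransform.Fitting
import Groth.Agent.Lib.QCoh.Closure

/-!
# The strict transform of a quasi-coherent module is quasi-coherent
-/

set_option autoImplicit false
set_option maxHeartbeats 1000000

noncomputable section

universe u

open CategoryTheory CategoryTheory.Limits AlgebraicGeometry TopologicalSpace Opposite

namespace Groth.Agent.H22.StrictTransform

open Groth.Agent Groth.Agent.Lib Groth.Agent.Lib.QCoh.Localizing

variable {X : Scheme.{u}} {E : X.IdealSheafData} {P G : X.Modules} (π : P ⟶ G)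

/-- The kernel of the projection to a strict transform is quasi-coherent. -/
theorem isQCoh_kernel' [P.IsQuasicoherent] (hE : BlowUp.IsEffCartierIdeal E)
    (hG : ∀ (V : X.affineOpens) (m : P.presheaf.obj (op V.1)),
      π.app V.1 m = 0 ↔ BlowUp.KilledByPowerNear E P V m) :
    (kernel π).IsQuasicoherent := by
  let S := ShortComplex.mk (kernel.ι π) π (kernel.condition π)
  have hS : S.Exact := S.exact_of_f_is_kernel (kernelIsKernel π)
  haveI : Mono S.f := inferInstanceAs (Mono (kernel.ι π))
  refine isQCoh_of_forall_exists_localizes fun x => ?_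
  obtain ⟨W, hxW, -, t, -, htW⟩ := Ideal.EffCartier.exists_gen hE x (W := ⊤) trivial
  refine ⟨W.1, W.2, hxW, fun f => ⟨fun s => ?_, fun s hs => ?_⟩⟩
  · let D : X.affineOpens := ⟨X.basicOpen f, W.2.basicOpen f⟩
    obtain ⟨n, m, hm⟩ := (localizes_of_isAffineOpen P W.2 f).ext' (S.f.app D.1 s)
    obtain ⟨N, hN⟩ := (hG D (S.f.app D.1 s)).1 (QCoh.Closure.sections_comp (S := S) D.1 s)
    have hz : res P (X.basicOpen_le f) (t ^ N • m) = 0 := by
      rw [res_smul, hm, smul_comm]
      refine Eq.trans (congrArg _ (hN _ ?_)) (smul_zero _)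
      rw [Scheme.IdealSheafData.ideal_pow, Pi.pow_apply,
        Ideal.EffCartier.ideal_eq_span_of_le (V := D) (X.basicOpen_le f) htW,
        Ideal.span_singleton_pow, map_pow]
      exact Ideal.mem_span_singleton_self _
    obtain ⟨r, hr⟩ := (localizes_of_isAffineOpen P W.2 f).sep _ hz
    obtain ⟨s', hs'⟩ := QCoh.Closure.sections_exact hS W.1 (f ^ r • m) ((hG W _).2 ⟨N, fun a ha => by
      rw [Scheme.IdealSheafData.ideal_pow, Pi.pow_apply, htW, Ideal.span_singleton_pow,
        Ideal.mem_span_singleton'] at ha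
      obtain ⟨c, rfl⟩ := ha
      rw [mul_smul, smul_comm (t ^ N) (f ^ r), hr, smul_zero]⟩)
    refine ⟨r + n, s', QCoh.Closure.sections_injective_of_mono S.f _ ?_⟩
    rw [← res_app, hs', res_smul, hm, Scheme.Modules.Hom.app_smul, smul_smul, map_pow, pow_add]
  · obtain ⟨n, hn⟩ := (localizes_of_isAffineOpen P W.2 f).sep (S.f.app W.1 s)
      (by rw [res_app, hs, map_zero])
    refine ⟨n, QCoh.Closure.sections_injective_of_mono S.f W.1 ?_⟩
    rw [Scheme.Modules.Hom.app_smul, hn, map_zero]

/-- A strict transform of a quasi-coherent module is quasi-coherent. -/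
theorem isQCoh' [P.IsQuasicoherent] [Epi π] (hE : BlowUp.IsEffCartierIdeal E)
    (hG : ∀ (V : X.affineOpens) (m : P.presheaf.obj (op V.1)),
      π.app V.1 m = 0 ↔ BlowUp.KilledByPowerNear E P V m) :
    G.IsQuasicoherent := by
  let S := ShortComplex.mk (kernel.ι π) π (kernel.condition π)
  haveI : S.X₁.IsQuasicoherent := isQCoh_kernel' π hE hG
  haveI : S.X₂.IsQuasicoherent := ‹P.IsQuasicoherent›
  haveI : Epi S.g := ‹Epi π›
  exact QCoh.Closure.isQCoh_of_exact_epi (S := S) (S.exact_of_f_is_kernel (kernelIsKernel π))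

/-- A quasi-coherent quotient of a finite type quasi-coherent module is of finite type. -/
theorem isFT_of_epi [P.IsQuasicoherent] [G.IsQuasicoherent] [Epi π]
    [SheafOfModules.IsFiniteType (R := X.ringCatSheaf) P] :
    SheafOfModules.IsFiniteType (R := X.ringCatSheaf) G := by
  refine CohBasics.Affine.isFiniteType_of_finite_sections fun x => ?_
  obtain ⟨U, hU, hx, -⟩ := exists_isAffineOpen_mem_and_subset (show x ∈ (⊤ : X.Opens) from trivial)
  haveI : Module.Finite Γ(X, U) Γ(P, U) := CohBasics.Affine.finite_sections hU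
  let φ : Γ(P, U) →ₗ[Γ(X, U)] Γ(G, U) :=
    { toFun := π.app U
      map_add' := map_add _
      map_smul' := fun a b => Scheme.Modules.Hom.app_smul π a b }
  exact ⟨U, hU, hx, Module.Finite.of_surjective φ (QCoh.Closure.sections_surjective_of_epi π hU)⟩

/-- The projection to a strict transform is an isomorphism off the exceptional ideal. -/
theorem stalkMap_injective_of_notMem [P.IsQuasicoherent] (hE : BlowUp.IsEffCartierIdeal E)
    (hG : ∀ (V : X.affineOpens) (m : P.presheaf.obj (op V.1)),
      π.app V.1 m = 0 ↔ BlowUp.KilledByPowerNear E P V m) {x : X} (hx : x ∉ E.support) :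
    Function.Injective (Modules.StalkModule.stalkMapₗ π x) := by
  obtain ⟨W, hxW, -, t, -, htW⟩ := Ideal.EffCartier.exists_gen hE x (W := ⊤) trivial
  rw [Scheme.IdealSheafData.mem_support_iff_of_mem hxW, Scheme.mem_zeroLocus_iff] at hx
  push Not at hx
  obtain ⟨a, ha, hxa⟩ := hx
  obtain ⟨c, rfl⟩ := Ideal.mem_span_singleton'.1 (htW.le ha)
  rw [X.mem_basicOpen _ x hxW, map_mul] at hxa
  have hu := isUnit_of_mul_isUnit_right hxa
  rw [← LinearMap.ker_eq_bot, eq_bot_iff]
  intro v hv
  obtain ⟨n, hn⟩ := (stalk_ker_iff' π hG W hxW t htW v).1 hv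
  exact (hu.pow n).smul_eq_zero.1 hn

end Groth.Agent.H22.StrictTransform

namespace Groth.Agent.H22.StrictTransform

open Groth.Agent.Lib

/-- A morphism injective on sections over affine opens is a monomorphism. -/
theorem mono_of_torsionFree {X : Scheme.{u}} {P G : X.Modules} (π : P ⟶ G)
    (h : ∀ (V : X.affineOpens) (m : P.presheaf.obj (op V.1)), π.app V.1 m = 0 → m = 0) : Mono π := by
  refine (Modules.StalkModule.mono_iff_stalkMapₗ_injective π).2 fun x => ?_
  rw [← LinearMap.ker_eq_bot, eq_bot_iff]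
  intro v hv
  obtain ⟨U, hxU, m, rfl⟩ := TopCat.Presheaf.exists_germ_eq P.presheaf v
  rw [LinearMap.mem_ker, Modules.StalkModule.stalkMapₗ_germ,
    ← map_zero (G.presheaf.germ U x hxU).hom] at hv
  obtain ⟨U', hxU', i, j, hij⟩ := G.presheaf.germ_eq x hxU hxU _ _ hv
  obtain ⟨V, hV, hxV, hle⟩ := exists_isAffineOpen_mem_and_subset hxU'
  have hVU : V ≤ U := fun y hy => i.le (hle hy)
  have h0 : P.presheaf.map (homOfLE hVU).op m = 0 := by
    refine h ⟨V, hV⟩ _ ?_
    refine Eq.trans (ConcreteCategory.congr_hom (π.mapPresheaf.naturality (homOfLE hVU).op) m) ?_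
    have h' := congrArg (G.presheaf.map (homOfLE (show V ≤ U' from hle)).op) hij
    rw [map_zero, map_zero, ← CategoryTheory.comp_apply, ← G.presheaf.map_comp] at h'
    exact h'
  rw [Submodule.mem_bot, ← TopCat.Presheaf.germ_res_apply P.presheaf (homOfLE hVU) x hxV, h0,
    map_zero]

end Groth.Agent.H22.StrictTransform
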