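import Groth.Agent.H22.StrictTransform.Common
import Groth.Agent.H22.StrictTransform.Section
import Groth.Agent.H22.Glue2.Basic
import Groth.Agent.Lib.Ideal.BlowUp

/-!
# Extending quasi-dominations
-/

set_option autoImplicit false
set_option maxHeartbeats 1000000

noncomputable section

universe u

open CategoryTheory CategoryTheory.Limits AlgebraicGeometry TopologicalSpace

namespace Groth.Agent.H22.StrictTransform

open Groth.Agent.Lib

theorem exists_quasiDomination {S X Y : Scheme.{u}} [QuasiSeparatedSpace S]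
    [CompactSpace X] [QuasiSeparatedSpace X] [CompactSpace Y]
    (pX : X ⟶ S) (pY : Y ⟶ S) [IsSeparated pY] [LocallyOfFiniteType pY]
    (U V : X.Opens) (hUV : U ≤ V) (hU : IsCompact (U : Set X)) (hV : IsCompact (V : Set X))
    (hUd : Dense (U : Set X))
    (f : (U : Scheme.{u}) ⟶ Y) (hf : U.ι ≫ pX = f ≫ pY)
    (hcl : closure (Set.range (fun x => pullback.lift U.ι f hf x)) ∩
        ((pullback.fst pX pY) ⁻¹ᵁ V : Set ↥(pullback pX pY)) ⊆ Set.range (fun x => pullback.lift U.ι f hf x)) :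
    ∃ (𝓘 : X.IdealSheafData) (Xt : Scheme.{u}) (q : Xt ⟶ X),
      BlowUp.IsBlowUp q 𝓘 ∧ BlowUp.IsAdmissibleFor V 𝓘 ∧
      ∃ (W : Xt.Opens) (hle : q ⁻¹ᵁ U ≤ W) (ft : (W : Scheme.{u}) ⟶ Y) (hft : W.ι ≫ q ≫ pX = ft ≫ pY),
        Dense (W : Set Xt) ∧ Xt.homOfLE hle ≫ ft = (q ∣_ U) ≫ f ∧
        IsClosed (Set.range (fun x => pullback.lift W.ι ft hft x)) := by
  haveI : CompactSpace (U : Scheme.{u}) := isCompact_iff_compactSpace.1 hU
  haveI : CompactSpace (V : Scheme.{u}) := isCompact_iff_compactSpace.1 hV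
  haveI : QuasiCompact pY := inferInstance
  haveI : QuasiSeparatedSpace ↥(pullback pX pY) :=
    quasiSeparatedSpace_of_quasiSeparated (pullback.fst pX pY)
  let v : (U : Scheme.{u}) ⟶ pullback pX pY := pullback.lift U.ι f hf
  haveI := std_toImage v
  let ψ : v.image ⟶ X := v.imageι ≫ pullback.fst pX pY
  have hd : v.toImage ≫ ψ = U.ι := by
    simp only [ψ, v, Scheme.Hom.toImage_imageι_assoc, pullback.lift_fst]
  haveI := isIso_of_section ψ U v.toImage hd
  have hpre : ψ ⁻¹ᵁ V ≤ ψ ⁻¹ᵁ U := by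
    intro z hz
    have hz1 : v.imageι z ∈ closure (Set.range v) := by
      rw [← Scheme.Hom.support_ker]
      exact (v.ker.range_subschemeι).le ⟨z, rfl⟩
    obtain ⟨u, hu⟩ := hcl ⟨hz1, hz⟩
    have : v.toImage u = z := v.imageι.isClosedEmbedding.injective (by
      rw [← Scheme.Hom.comp_apply, Scheme.Hom.toImage_imageι]; exact hu)
    rw [← this]
    show ψ (v.toImage u) ∈ U
    rw [← Scheme.Hom.comp_apply, hd]
    exact u.2
  let a : ((ψ ⁻¹ᵁ U : v.image.Opens) : Scheme.{u}) ⟶ v.image := (ψ ⁻¹ᵁ U).ι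
  let b : ((ψ ⁻¹ᵁ U : v.image.Opens) : Scheme.{u}) ⟶ V := (ψ ∣_ U) ≫ X.homOfLE hUV
  have hab : a ≫ ψ = b ≫ V.ι := by
    simp only [a, b, Category.assoc, Scheme.homOfLE_ι, morphismRestrict_ι]
  haveI : IsClosedImmersion (pullback.lift a b hab) := by
    set l := pullback.lift a b hab
    have hl : l ≫ pullback.fst ψ V.ι = a := pullback.lift_fst _ _ _
    haveI : IsOpenImmersion (l ≫ pullback.fst ψ V.ι) := by rw [hl]; infer_instance
    haveI : IsOpenImmersion l := IsOpenImmersion.of_comp l (pullback.fst ψ V.ι)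
    have hsurj : Function.Surjective l := by
      intro w
      have hw : pullback.fst ψ V.ι w ∈ ψ ⁻¹ᵁ V := by
        show ψ (pullback.fst ψ V.ι w) ∈ V
        rw [← Scheme.Hom.comp_apply, pullback.condition, Scheme.Hom.comp_apply]
        exact (pullback.snd ψ V.ι w).2
      refine ⟨⟨_, hpre hw⟩, (pullback.fst ψ V.ι).isOpenEmbedding.injective ?_⟩
      rw [← Scheme.Hom.comp_apply, hl]
      rfl
    haveI : IsIso l := (isIso_iff_isOpenImmersion_and_epi_base l).2
      ⟨inferInstance, (TopCat.epi_iff_surjective _).2 hsurj⟩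
    infer_instance
  let ψ' := pushout.desc ψ V.ι hab
  haveI : IsSeparated ψ' := Glue2.isSeparated_desc a b ψ V.ι hab
  haveI : LocallyOfFiniteType ψ' := Glue2.locallyOfFiniteType_desc a b ψ V.ι hab
  haveI : CompactSpace v.image := QuasiCompact.compactSpace_of_compactSpace ψ
  haveI : QuasiCompact ψ' := Glue2.quasiCompact_desc a b ψ V.ι hab
  have hinl : pushout.inl a b ≫ ψ' = ψ := pushout.inl_desc _ _ _
  have hinr : pushout.inr a b ≫ ψ' = V.ι := pushout.inr_desc _ _ _
  haveI : IsIso (ψ' ∣_ V) := by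
    have hr : Set.range (pushout.inr a b) ⊆ Set.range (ψ' ⁻¹ᵁ V).ι := by
      rintro _ ⟨t, rfl⟩
      rw [Scheme.Opens.range_ι]
      show ψ' (pushout.inr a b t) ∈ V
      rw [← Scheme.Hom.comp_apply, hinr]
      exact t.2
    have hr' : Set.range (ψ' ⁻¹ᵁ V).ι ⊆ Set.range (pushout.inr a b) := by
      rw [Scheme.Opens.range_ι]
      intro x hx
      rcases (Set.ext_iff.1 (Glue2.range_union a b) x).2 trivial with ⟨z, rfl⟩ | h
      · have hz : z ∈ ψ ⁻¹ᵁ V := by
          show ψ z ∈ V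
          rw [← hinl, Scheme.Hom.comp_apply]
          exact hx
        refine ⟨b ⟨z, hpre hz⟩, ?_⟩
        exact ((Glue2.inl_eq_inr_iff a b _ _).2 ⟨⟨z, hpre hz⟩, rfl, rfl⟩).symm
      · exact h
    let k := IsOpenImmersion.lift (pushout.inr a b) (ψ' ⁻¹ᵁ V).ι hr'
    have hk : k = ψ' ∣_ V := by
      rw [← cancel_mono V.ι, morphismRestrict_ι, ← hinr, ← Category.assoc,
        IsOpenImmersion.lift_fac]
    refine ⟨IsOpenImmersion.lift (ψ' ⁻¹ᵁ V).ι (pushout.inr a b) hr, ?_, ?_⟩
    · rw [← hk, ← cancel_mono (ψ' ⁻¹ᵁ V).ι, Category.assoc, IsOpenImmersion.lift_fac,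
        IsOpenImmersion.lift_fac, Category.id_comp]
    · rw [← cancel_mono V.ι, Category.assoc, morphismRestrict_ι, IsOpenImmersion.lift_fac_assoc,
        hinr, Category.id_comp]
  obtain ⟨J, Z, Xt, r, c, j, hr, hc, hadm, hsupp, hj, hjc, hjV⟩ := exists_openImmersion ψ' V hV
  haveI := hj
  haveI : IsProper r := BlowUpExists.isProper_of_isBlowUp hr (isFG_comap' ψ' hadm.1)
  haveI : IsProper c := BlowUpExists.isProper_of_isBlowUp hc hadm.1
  let R := (pushout.inl a b).opensRange
  let e : ((r ⁻¹ᵁ R : Z.Opens) : Scheme.{u}) ⟶ Xt := (r ⁻¹ᵁ R).ι ≫ j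
  let r' : ((r ⁻¹ᵁ R : Z.Opens) : Scheme.{u}) ⟶ v.image :=
    (r ∣_ R) ≫ (pushout.inl a b).isoOpensRange.inv
  haveI : IsProper (r ∣_ R) := MorphismProperty.of_isPullback (isPullback_morphismRestrict r R).flip inferInstance
  let m : (e.opensRange : Scheme.{u}) ⟶ v.image := e.isoOpensRange.inv ≫ r'
  have hm : m ≫ ψ = e.opensRange.ι ≫ c := by
    simp only [m, r', Category.assoc]
    have h1 : (pushout.inl a b).isoOpensRange.inv ≫ ψ = R.ι ≫ ψ' := by
      refine ((congrArg (fun g => (pushout.inl a b).isoOpensRange.inv ≫ g) hinl).symm).trans ?_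
      exact (Category.assoc _ _ _).symm.trans
        (congrArg (· ≫ ψ') (pushout.inl a b).isoOpensRange_inv_comp)
    rw [h1, morphismRestrict_ι_assoc, ← hjc, ← e.isoOpensRange_inv_comp]
    simp only [e, Category.assoc]
  have hle : c ⁻¹ᵁ U ≤ e.opensRange := by
    intro y hy
    haveI := hjV
    obtain ⟨z, hz⟩ := (j ∣_ (c ⁻¹ᵁ V)).surjective ⟨y, hUV hy⟩
    have hzy : j z.1 = y := by simpa using congrArg Subtype.val hz
    have hzU : ψ' (r z.1) ∈ U := by
      rw [← Scheme.Hom.comp_apply, ← hjc, Scheme.Hom.comp_apply, hzy]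
      exact hy
    have hzR : z.1 ∈ r ⁻¹ᵁ R := by
      rcases (Set.ext_iff.1 (Glue2.range_union a b) (r z.1)).2 trivial with h | ⟨t, ht⟩
      · exact h
      · have htU : t.1 ∈ U := by
          rw [← ht, ← Scheme.Hom.comp_apply, hinr] at hzU
          exact hzU
        obtain ⟨o, ho⟩ := (ψ ∣_ U).surjective ⟨t.1, htU⟩
        refine ⟨a o, ?_⟩
        rw [← ht]
        refine (Glue2.inl_eq_inr_iff a b _ _).2 ⟨o, rfl, Subtype.ext ?_⟩
        have := congrArg Subtype.val ho
        simpa [b] using this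
    exact ⟨⟨z.1, hzR⟩, hzy⟩
  refine ⟨J, Xt, c, hc, hadm, e.opensRange, hle, m ≫ v.imageι ≫ pullback.snd pX pY, ?_, ?_, ?_, ?_⟩
  · simp only [Category.assoc, ← pullback.condition]
    rw [← reassoc_of% hm]
    simp only [ψ, Category.assoc]
  · refine Dense.mono hle ?_
    rw [dense_iff_inter_open]
    intro O hO hne
    obtain ⟨y, hyO⟩ := hne
    obtain ⟨y', hy'O, hy'V⟩ : ∃ y' ∈ O, c y' ∈ V := by
      by_contra! hall
      have h10 : (1 : Γ(Xt, (⟨O, hO⟩ : Xt.Opens))) = 0 := by
        refine Lib.Ideal.EffCartier.eq_zero_of_germ_eq_zero_off hc.1 _ fun w hw hws => ?_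
        refine absurd ?_ hws
        rw [Scheme.IdealSheafData.support_comap]
        show c w ∈ (J.support : Set X)
        rw [hsupp]; exact hall w hw
      have := congrArg (Xt.presheaf.germ ⟨O, hO⟩ y hyO) h10
      rw [map_one, map_zero] at this
      exact one_ne_zero this
    haveI : IsIso (c ∣_ V) := by
      have h1 := Lib.Ideal.BlowUp.isIso_off_center hc
      have h2 : J.support.compl = V := Opens.ext (by
        show (J.support : Set X)ᶜ = V
        rw [hsupp, compl_compl])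
      exact ((MorphismProperty.isomorphisms Scheme.{u}).arrow_mk_iso_iff (morphismRestrictEq c h2)).1 h1
    have hopen : IsOpen (V.ι '' ((c ∣_ V).homeomorph '' ((c ⁻¹ᵁ V).ι ⁻¹' O))) :=
      V.ι.isOpenEmbedding.isOpenMap _
        ((c ∣_ V).homeomorph.isOpenMap _ (hO.preimage (c ⁻¹ᵁ V).ι.continuous))
    obtain ⟨x, hx, hxU⟩ := hUd.inter_open_nonempty _ hopen
      ⟨c y', ⟨_, ⟨⟨y', hy'V⟩, hy'O, rfl⟩, by simp⟩⟩
    obtain ⟨_, ⟨z, hz, rfl⟩, rfl⟩ := hx
    refine ⟨z.1, hz, ?_⟩
    simpa using hxU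
  · have h3 : Xt.homOfLE hle ≫ m = (c ∣_ U) ≫ v.toImage := by
      refine eq_comp_of_section ψ U v.toImage hd _ _ ?_
      rw [Category.assoc, hm, morphismRestrict_ι, Scheme.homOfLE_ι_assoc]
    rw [reassoc_of% h3, Scheme.Hom.toImage_imageι_assoc]
    simp only [v, pullback.lift_snd]
  · let M : pullback (c ≫ pX) pY ⟶ pullback pX pY :=
      pullback.map _ _ _ _ c (𝟙 Y) (𝟙 S) (by simp) (by simp)
    haveI : IsSeparated M := by
      have : IsSeparated (M ≫ pullback.fst pX pY) := by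
        simp only [M, pullback.map, pullback.lift_fst]
        infer_instance
      exact IsSeparated.of_comp M (pullback.fst pX pY)
    have key : ∀ (l : (e.opensRange : Scheme.{u}) ⟶ pullback (c ≫ pX) pY),
        l ≫ pullback.fst _ _ = e.opensRange.ι →
        l ≫ pullback.snd _ _ = m ≫ v.imageι ≫ pullback.snd pX pY → IsProper l := by
      intro l h1 h2
      have : l ≫ M = m ≫ v.imageι := by
        apply pullback.hom_ext <;>
          simp only [M, pullback.map, pullback.lift_fst, pullback.lift_snd, Category.assoc,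
            Category.comp_id]
        · rw [reassoc_of% h1, ← hm]
        · exact h2
      haveI : IsProper (l ≫ M) := by rw [this]; infer_instance
      exact IsProper.of_comp l M
    haveI := key _ (pullback.lift_fst e.opensRange.ι (m ≫ v.imageι ≫ pullback.snd pX pY) (by
      simp only [Category.assoc, ← pullback.condition]
      rw [← reassoc_of% hm]
      simp only [ψ, Category.assoc])) (pullback.lift_snd _ _ _)
    exact (Scheme.Hom.isClosedMap _).isClosed_range

end Groth.Agent.H22.StrictTransform
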