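import Groth.Prelude.Def_BlowUp2
import Groth.Prelude.Def_Coh
import Groth.Agent.Lib.Ideal.EffCartier
import Groth.Agent.Lib.Lim.IdealExt
import Groth.Agent.Lib.Ideal.Prime
import Mathlib.AlgebraicGeometry.Morphisms.ClosedImmersion

/-!
# The closed subscheme of functions killed by a power of an ideal
-/

set_option autoImplicit false
set_option maxHeartbeats 1000000

noncomputable section

universe u

open CategoryTheory CategoryTheory.Limits AlgebraicGeometry TopologicalSpace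

namespace Groth.Agent.H22.StrictTransform

open Groth.Agent.Lib

variable {X : Scheme.{u}} {E 𝒥 : X.IdealSheafData}

/-- `𝒥` consists of the functions killed by a power of `E`. -/
def IsTorsionIdeal (E 𝒥 : X.IdealSheafData) : Prop :=
  ∀ (W : X.affineOpens) (a : Γ(X, W.1)), a ∈ 𝒥.ideal W ↔
    ∃ n : ℕ, ∀ c ∈ (E ^ n).ideal W, c * a = 0

theorem isTorsionIdeal_iff (E 𝒥 : X.IdealSheafData) :
    IsTorsionIdeal E 𝒥 ↔ ∀ (W : X.affineOpens) (a : Γ(X, W.1)), a ∈ 𝒥.ideal W ↔
      BlowUp.KilledByPowerNear E (Coh.structureModule X) W a :=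
  Iff.rfl

theorem IsTorsionIdeal.ideal_eq_bot (h : IsTorsionIdeal E 𝒥) (W : X.affineOpens)
    (hW : ∀ x ∈ W.1, x ∉ E.support) : 𝒥.ideal W = ⊥ := by
  have hE : E.ideal W = ⊤ := by
    by_contra hne
    obtain ⟨m, hm, hle⟩ := Ideal.exists_le_maximal _ hne
    let p : PrimeSpectrum Γ(X, W.1) := ⟨m, hm.isPrime⟩
    have hp : W.2.fromSpec p ∈ W.1 := by
      rw [← SetLike.mem_coe, ← W.2.range_fromSpec]; exact Set.mem_range_self p
    refine hW _ hp ((Lib.Ideal.Prime.mem_support_iff_le_prime _ W hp).2 ?_)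
    rw [show W.2.primeIdealOf ⟨W.2.fromSpec p, hp⟩ = p from
      W.2.fromSpec.isOpenEmbedding.injective (W.2.fromSpec_primeIdealOf _)]
    exact hle
  refine le_bot_iff.1 fun a ha => ?_
  obtain ⟨n, hn⟩ := (h W a).1 ha
  have := hn 1 (by rw [Scheme.IdealSheafData.ideal_pow, Pi.pow_apply, hE, Ideal.top_pow]; trivial)
  simpa using this

/-- Off the support of `E` nothing is removed. -/
theorem IsTorsionIdeal.isIso_morphismRestrict (h : IsTorsionIdeal E 𝒥) (O : X.Opens)
    (hO : ∀ x ∈ O, x ∉ E.support) : IsIso (𝒥.subschemeι ∣_ O) := by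
  rw [IsClosedImmersion.isIso_iff_ker_eq_bot, ← le_bot_iff]
  intro W
  rw [Scheme.ker_morphismRestrict_ideal, Scheme.IdealSheafData.ker_subschemeι,
    h.ideal_eq_bot _ (by rintro _ ⟨y, -, rfl⟩; exact hO _ y.2)]
  exact bot_le

/-- A function on the torsion-free quotient vanishing off the support of `E` vanishes. -/
theorem IsTorsionIdeal.eq_zero (h : IsTorsionIdeal E 𝒥) (hE : Lim.IdealExt.IsFG E)
    {T : 𝒥.subscheme.Opens} (s : Γ(𝒥.subscheme, T))
    (hs : ∀ z (hz : z ∈ T), 𝒥.subschemeι z ∉ E.support →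
      𝒥.subscheme.presheaf.germ T z hz s = 0) : s = 0 := by
  refine TopCat.Presheaf.section_ext 𝒥.subscheme.sheaf T s 0 fun z hz => ?_
  change 𝒥.subscheme.presheaf.germ T z hz s = 𝒥.subscheme.presheaf.germ T z hz 0
  rw [map_zero]
  obtain ⟨T', hT', hTT'⟩ := 𝒥.subschemeι.isClosedEmbedding.isInducing.isOpen_iff.1 T.2
  obtain ⟨W, hW, hzW, hWle⟩ := exists_isAffineOpen_mem_and_subset
    (show 𝒥.subschemeι z ∈ (⟨T', hT'⟩ : X.Opens) from by
      have : z ∈ 𝒥.subschemeι ⁻¹' T' := hTT'.ge hz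
      exact this)
  have hle : 𝒥.subschemeι ⁻¹ᵁ W ≤ T := fun y hy => hTT'.le (hWle hy)
  rw [← TopCat.Presheaf.germ_res_apply 𝒥.subscheme.presheaf (homOfLE hle) z hzW]
  obtain ⟨a, ha⟩ := 𝒥.subschemeι.app_surjective W hW (𝒥.subscheme.presheaf.map (homOfLE hle).op s)
  rw [← ha]
  suffices a ∈ 𝒥.ideal ⟨W, hW⟩ by
    rw [← 𝒥.ker_subschemeι_app ⟨W, hW⟩, RingHom.mem_ker] at this
    rw [this, map_zero]
  have hrad : E.ideal ⟨W, hW⟩ ≤ (Ideal.span {a}).annihilator.radical := by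
    intro e he
    have hD : ∀ x ∈ X.basicOpen e, x ∉ E.support := fun x hx hxs => by
      have := (Scheme.IdealSheafData.mem_support_iff_of_mem (U := ⟨W, hW⟩) (X.basicOpen_le e hx)).1 hxs
      exact (X.mem_zeroLocus_iff _ _).1 this e he hx
    let D : X.affineOpens := ⟨X.basicOpen e, hW.basicOpen e⟩
    have h0 : X.presheaf.map (homOfLE (X.basicOpen_le e)).op a ∈ 𝒥.ideal D := by
      rw [← 𝒥.ker_subschemeι_app D, RingHom.mem_ker]
      refine Eq.trans (ConcreteCategory.congr_hom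
        (𝒥.subschemeι.naturality (homOfLE (X.basicOpen_le e)).op) a) ?_
      rw [CommRingCat.comp_apply, ha]
      refine TopCat.Presheaf.section_ext 𝒥.subscheme.sheaf _ _ 0 fun y hy => ?_
      change 𝒥.subscheme.presheaf.germ _ y hy _ = 𝒥.subscheme.presheaf.germ _ y hy 0
      rw [map_zero]
      erw [TopCat.Presheaf.germ_res_apply, TopCat.Presheaf.germ_res_apply]
      exact hs y _ (hD _ hy)
    rw [h.ideal_eq_bot D hD, Ideal.mem_bot] at h0
    haveI := hW.isLocalization_basicOpen e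
    obtain ⟨⟨m, n, rfl⟩, hm⟩ := (IsLocalization.map_eq_zero_iff (Submonoid.powers e)
      Γ(X, X.basicOpen e) a).1 h0
    refine ⟨n, ?_⟩
    rw [Submodule.mem_annihilator_span_singleton]
    exact hm
  obtain ⟨N, hN⟩ := Ideal.exists_pow_le_of_le_radical_of_fg hrad (hE ⟨W, hW⟩)
  refine (h ⟨W, hW⟩ a).2 ⟨N, fun c hc => ?_⟩
  rw [Scheme.IdealSheafData.ideal_pow, Pi.pow_apply] at hc
  exact (Submodule.mem_annihilator_span_singleton a c).1 (hN hc)

end Groth.Agent.H22.StrictTransform
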